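import Cfsg.Agent.H994.TwoGen.M12
import Cfsg.Agent.H36.M12.Lin
import Cfsg.Agent.H906.Cover_m3
import Cfsg.Agent.S2035
import Cfsg.Agent.Schreier.MTwelve
import Cfsg.Agent.FastGrp
import Cfsg.Agent.Prune
set_option linter.all false

section
prune_inst 0x7ffffdfff9f8f9dfffff7e7fa7decffddbbf3fffe6dff9cbffe069ffabff7b028bc5fba78fea12fe1ef7e21450fa7b53ffffeeffe86fdc7ffffd5ff41ffbffdfffff350c519cbcb41ffc6fff93f0778e7f3fffffffffffffffffffffffffffbeffbfffffffff

-- part: H932/MtMod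
section
prune_inst 0x800000000000000084000000000000200000000008000000082000000000000000000100000000000000000000000000000100630000000000000000000000000000000000000000000000000000000000000000
set_option linter.all false
open scoped Cfsg.Agent.FastGrp

-- part: H932/MtGam
section
/-!
# The group `2.M₁₂` of signed permutations (helper932)

`Hm` a symmetric Hadamard matrix of order 12 (`Hm * Hm = 12`), `Γ = Gam` the group generated by two pairs
(signed permutation of the rows, permutation of the 24 points of the Golay code).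

* `Big` : the pairs (signed permutation `s` of the rows, permutation `g` of the points) such that `g` acts on the
  dodecad as `s` on the rows, and on the complement as a permutation of the columns of `Hm`;
* `gext` : elements of `Γ` with the same first component are equal;
* `sig : Γ →* M₁₂` is onto with kernel `{1, neg}`.
-/

set_option autoImplicit false

namespace Cfsg.Agent.H932.Mt

open Cfsg Cfsg.Agent.H994.TwoGen Cfsg.Agent.H994.TwoGen.Chain
open Cfsg.Agent.H994.TwoGen.M12 (X Y)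

/-- function with a given table -/
def tf (t : List ℕ) (k : Fin 24) : Fin 24 := ⟨t.getD k 0 % 24, Nat.mod_lt _ (by norm_num)⟩

/-- table of the lift of `X` -/
def tX : List ℕ := [6, 7, 19, 18, 17, 16, 12, 13, 9, 8, 23, 22, 15, 14, 10, 11, 2, 3, 1, 0, 5, 4, 21, 20]
/-- table of its inverse -/
def tXi : List ℕ := [19, 18, 16, 17, 21, 20, 0, 1, 9, 8, 14, 15, 6, 7, 13, 12, 5, 4, 3, 2, 23, 22, 11, 10]
/-- table of the lift of `Y` -/
def tY : List ℕ := [20, 21, 2, 3, 4, 5, 14, 15, 16, 17, 18, 19, 12, 13, 6, 7, 8, 9, 10, 11, 0, 1, 22, 23]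

/-- the lift of `X` -/
def px : Equiv.Perm (Fin 24) where
  toFun := tf tX
  invFun := tf tXi
  left_inv := by decide +kernel
  right_inv := by decide +kernel

/-- the lift of `Y` -/
def py : Equiv.Perm (Fin 24) where
  toFun := tf tY
  invFun := tf tY
  left_inv := by decide +kernel
  right_inv := by decide +kernel

/-- the Hadamard matrix, as a table -/
def tH : List (List ℤ) :=
  [[1, 1, -1, -1, 1, 1, -1, 1, -1, -1, 1, 1], [1, 1, 1, -1, -1, 1, 1, -1, 1, -1, -1, 1],
   [-1, 1, 1, 1, -1, 1, -1, 1, -1, 1, -1, 1], [-1, -1, 1, 1, 1, 1, -1, -1, 1, -1, 1, 1],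
   [1, -1, -1, 1, 1, 1, 1, -1, -1, 1, -1, 1], [1, 1, 1, 1, 1, 1, 1, 1, 1, 1, 1, -1],
   [-1, 1, -1, -1, 1, 1, -1, -1, 1, 1, -1, -1], [1, -1, 1, -1, -1, 1, -1, -1, -1, 1, 1, -1],
   [-1, 1, -1, 1, -1, 1, 1, -1, -1, -1, 1, -1], [-1, -1, 1, -1, 1, 1, 1, 1, -1, -1, -1, -1],
   [1, -1, -1, 1, -1, 1, -1, 1, 1, -1, -1, -1], [1, 1, 1, 1, 1, -1, -1, -1, -1, -1, -1, -1]]

/-- the Hadamard matrix -/
def Hm (i j : Fin 12) : ℤ := (tH.getD i []).getD j 0

theorem Hm_symm : ∀ i j, Hm i j = Hm j i := by decide +kernel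

theorem Hm_sq : ∀ i j, Hm i j = 1 ∨ Hm i j = -1 := by decide +kernel

theorem Hm_ne_zero (i j : Fin 12) : Hm i j ≠ 0 := by
  rcases Hm_sq i j with h | h <;> rw [h] <;> norm_num

theorem Hm_orth : ∀ i j, ∑ k, Hm i k * Hm k j = if i = j then 12 else 0 := by decide +kernel

/-- two different columns are not proportional -/
theorem Hm_col : ∀ j j' : Fin 12, j ≠ j' → ∃ i i' : Fin 12, Hm i j * Hm i' j' ≠ Hm i j' * Hm i' j := by
  decide +kernel

/-- the row of a signed point -/
def idx (k : Fin 24) : Fin 12 := ⟨k / 2, by omega⟩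

/-- the sign of a signed point -/
def sgn (k : Fin 24) : ℤ := if (k : ℕ) % 2 = 0 then 1 else -1

/-- the positive signed point -/
def pos (i : Fin 12) : Fin 24 := ⟨2 * i, by omega⟩

/-- the negative -/
def ng (k : Fin 24) : Fin 24 := ⟨if (k : ℕ) % 2 = 0 then k + 1 else k - 1, by split_ifs <;> omega⟩

theorem ng_ng : ∀ k, ng (ng k) = k := by decide +kernel
theorem idx_ng : ∀ k, idx (ng k) = idx k := by decide +kernel
theorem sgn_ng : ∀ k, sgn (ng k) = - sgn k := by decide +kernel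
theorem idx_pos : ∀ i, idx (pos i) = i := by decide +kernel
theorem sgn_pos : ∀ i, sgn (pos i) = 1 := by decide +kernel
theorem eq_pos_or : ∀ k, k = pos (idx k) ∨ k = ng (pos (idx k)) := by decide +kernel
theorem sgn_cases : ∀ k, sgn k = 1 ∨ sgn k = -1 := by decide +kernel
theorem ext_pt : ∀ k l : Fin 24, idx k = idx l → sgn k = sgn l → k = l := by decide +kernel

/-- the entries of the signed rows -/
def Hs (k : Fin 24) (j : Fin 12) : ℤ := sgn k * Hm (idx k) j

/-- points of the dodecad, indexed by the rows -/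
def rowp (i : Fin 12) : GolayPt :=
  some (show ZMod 23 from (⟨[0, 1, 2, 3, 4, 13, 8, 6, 9, 16, 18, 12].getD i 0 % 23, Nat.mod_lt _ (by norm_num)⟩ : Fin 23))

/-- points of the complement, indexed by the columns -/
def colp (j : Fin 12) : GolayPt :=
  if j = 9 then none else
    some (show ZMod 23 from (⟨[11, 17, 14, 22, 20, 7, 5, 19, 15, 0, 21, 10].getD j 0 % 23, Nat.mod_lt _ (by norm_num)⟩ : Fin 23))

theorem rowp_inj : ∀ i j, rowp i = rowp j → i = j := by decide +kernel
theorem colp_inj : ∀ i j, colp i = colp j → i = j := by decide +kernel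
theorem cover : ∀ p : GolayPt, (∃ i, rowp i = p) ∨ ∃ j, colp j = p := by decide +kernel

/-- the ambient group -/
abbrev GG := Equiv.Perm (Fin 24) × Equiv.Perm GolayPt

/-- the first generator -/
def gx : GG := (px, X)
/-- the second generator -/
def gy : GG := (py, Y)

/-- **`2.M₁₂`** -/
def Gam : Subgroup GG := Subgroup.closure {gx, gy}

/-- pairs compatible with the Hadamard matrix -/
def Big : Subgroup GG where
  carrier := {p | (∀ k, p.1 (ng k) = ng (p.1 k)) ∧ (∀ k, p.2 (rowp (idx k)) = rowp (idx (p.1 k))) ∧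
    ∃ (κ : Equiv.Perm (Fin 12)) (δ : Fin 12 → ℤˣ), (∀ j, p.2 (colp j) = colp (κ j)) ∧
      ∀ k j, Hs (p.1 k) (κ j) = δ j * Hs k j}
  one_mem' := ⟨fun k => rfl, fun k => rfl, 1, 1, fun j => rfl, fun k j => by
    change Hs k j = ((1 : ℤˣ) : ℤ) * Hs k j
    rw [Units.val_one, one_mul]⟩
  mul_mem' := by
    rintro ⟨s, g⟩ ⟨s', g'⟩ ⟨h1, h2, κ, δ, h3, h4⟩ ⟨h1', h2', κ', δ', h3', h4'⟩
    refine ⟨fun k => ?_, fun k => ?_, κ * κ', fun j => δ (κ' j) * δ' j, fun j => ?_, fun k j => ?_⟩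
    · change s (s' (ng k)) = ng (s (s' k))
      rw [h1', h1]
    · change g (g' (rowp (idx k))) = rowp (idx (s (s' k)))
      rw [h2', h2]
    · change g (g' (colp j)) = colp (κ (κ' j))
      rw [h3', h3]
    · change Hs (s (s' k)) (κ (κ' j)) = _
      rw [h4, h4', Units.val_mul, mul_assoc]
  inv_mem' := by
    rintro ⟨s, g⟩ ⟨h1, h2, κ, δ, h3, h4⟩
    have hs : ∀ k, s (s⁻¹ k) = k := fun k => s.apply_symm_apply k
    have hg : ∀ k, g (g⁻¹ k) = k := fun k => g.apply_symm_apply k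
    have hκ : ∀ k, κ (κ⁻¹ k) = k := fun k => κ.apply_symm_apply k
    refine ⟨fun k => ?_, fun k => ?_, κ⁻¹, fun j => δ (κ⁻¹ j), fun j => ?_, fun k j => ?_⟩
    · change s⁻¹ (ng k) = ng (s⁻¹ k)
      apply s.injective
      rw [hs, h1, hs]
    · change g⁻¹ (rowp (idx k)) = rowp (idx (s⁻¹ k))
      apply g.injective
      rw [hg, h2, hs]
    · change g⁻¹ (colp j) = colp (κ⁻¹ j)
      apply g.injective
      rw [hg, h3, hκ]
    · change Hs (s⁻¹ k) (κ⁻¹ j) = _
      have h5 := h4 (s⁻¹ k) (κ⁻¹ j)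
      change Hs (s (s⁻¹ k)) (κ (κ⁻¹ j)) = _ at h5
      rw [hs, hκ] at h5
      rw [h5, ← mul_assoc, ← Units.val_mul, Int.units_mul_self, Units.val_one, one_mul]

/-- a permutation of the columns from tables -/
def tp (t : List ℕ) (k : Fin 12) : Fin 12 := ⟨t.getD k 0 % 12, Nat.mod_lt _ (by norm_num)⟩

/-- signs from a table -/
def ts (t : List Bool) (k : Fin 12) : ℤˣ := if t.getD k true then 1 else -1

/-- the action of `X` on the columns -/
def cX : Equiv.Perm (Fin 12) where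
  toFun := tp [10, 11, 9, 3, 0, 8, 4, 1, 2, 7, 5, 6]
  invFun := tp [4, 7, 8, 3, 6, 10, 11, 9, 5, 2, 0, 1]
  left_inv := by decide +kernel
  right_inv := by decide +kernel

/-- the action of `Y` on the columns -/
def cY : Equiv.Perm (Fin 12) where
  toFun := tp [9, 10, 2, 8, 11, 5, 6, 7, 3, 0, 1, 4]
  invFun := tp [9, 10, 2, 8, 11, 5, 6, 7, 3, 0, 1, 4]
  left_inv := by decide +kernel
  right_inv := by decide +kernel

theorem gx_mem : gx ∈ Big :=
  ⟨by decide +kernel, by decide +kernel, cX,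
    ts [true, true, true, false, false, true, false, false, false, true, true, false], by decide +kernel,
    by decide +kernel⟩

theorem gy_mem : gy ∈ Big :=
  ⟨by decide +kernel, by decide +kernel, cY,
    ts [false, false, true, false, false, true, true, true, false, false, false, false], by decide +kernel,
    by decide +kernel⟩

theorem Gam_le : Gam ≤ Big := by
  unfold Gam
  rw [Subgroup.closure_le]
  rintro z (rfl | rfl)
  · exact gx_mem
  · exact gy_mem

/-- the group `2.M₁₂` as a type -/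
abbrev Γ := ↥Gam

theorem ng_comm (g : Γ) (k : Fin 24) : g.1.1 (ng k) = ng (g.1.1 k) := (Gam_le g.2).1 k

theorem big_inj {p : GG} (hp : p ∈ Big) (h : p.1 = 1) : p = 1 := by
  obtain ⟨h1, h2, κ, δ, h3, h4⟩ := hp
  have hκ : ∀ j, κ j = j := by
    intro j
    by_contra hne
    obtain ⟨i, i', hi⟩ := Hm_col j (κ j) (fun h => hne h.symm)
    apply hi
    have e1 := h4 (pos i) j
    have e2 := h4 (pos i') j
    rw [h] at e1 e2
    change Hs (pos i) (κ j) = _ at e1
    change Hs (pos i') (κ j) = _ at e2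
    unfold Hs at e1 e2
    rw [sgn_pos, idx_pos] at e1 e2
    rw [one_mul, one_mul] at e1 e2
    rw [e1, e2]
    ring
  apply Prod.ext
  · exact h
  · apply Equiv.ext
    intro q
    change p.2 q = q
    rcases cover q with ⟨i, rfl⟩ | ⟨j, rfl⟩
    · have := h2 (pos i)
      rw [idx_pos, h] at this
      rw [this]
      change rowp (idx (pos i)) = rowp i
      rw [idx_pos]
    · rw [h3, hκ]

/-- elements of `Γ` are determined by the signed permutation of the rows -/
theorem gext {a b : Γ} (h : a.1.1 = b.1.1) : a = b := by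
  have h1 : (a * b⁻¹).1.1 = 1 := by
    change a.1.1 * (b.1.1)⁻¹ = 1
    rw [h, mul_inv_cancel]
  have h2 := big_inj (Gam_le (a * b⁻¹).2) h1
  have h3 : a * b⁻¹ = 1 := Subtype.ext h2
  rwa [mul_inv_eq_one] at h3

/-- the value of a word -/
def ev : List ℕ → GG
  | [] => 1
  | 0 :: w => gx * ev w
  | 1 :: w => gy * ev w
  | 2 :: w => gx⁻¹ * ev w
  | _ :: w => gy⁻¹ * ev w

theorem ev_mem : ∀ w : List ℕ, ev w ∈ Gam
  | [] => Subgroup.one_mem _
  | 0 :: w => Subgroup.mul_mem _ (Subgroup.subset_closure (by simp)) (ev_mem w)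
  | 1 :: w => Subgroup.mul_mem _ (Subgroup.subset_closure (by simp)) (ev_mem w)
  | 2 :: w => Subgroup.mul_mem _ (Subgroup.inv_mem _ (Subgroup.subset_closure (by simp))) (ev_mem w)
  | (_ + 3) :: w => Subgroup.mul_mem _ (Subgroup.inv_mem _ (Subgroup.subset_closure (by simp))) (ev_mem w)

/-- an element of `Γ` from a word -/
def el (w : List ℕ) : Γ := ⟨ev w, ev_mem w⟩

/-- `-1` -/
def neg : Γ := el [0, 0, 0, 0, 0, 0, 0, 0, 0, 0, 0]

theorem neg_apply : ∀ k : Fin 24, neg.1.1 k = ng k := by decide +kernel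

theorem neg_mul_neg' : neg * neg = 1 := gext (by decide +kernel)

theorem neg_ne_one : neg ≠ 1 := by
  intro h
  have := neg_apply 0
  rw [h] at this
  revert this
  decide +kernel

theorem neg_comm (g : Γ) : neg * g = g * neg := by
  apply gext
  apply Equiv.ext
  intro k
  change neg.1.1 (g.1.1 k) = g.1.1 (neg.1.1 k)
  rw [neg_apply, neg_apply, ng_comm]

theorem closure_gens : Subgroup.closure ({el [0], el [1]} : Set Γ) = ⊤ := by
  have h1 : ∀ (z : GG) (hz : z ∈ Subgroup.closure ({gx, gy} : Set GG)),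
      (⟨z, hz⟩ : Γ) ∈ Subgroup.closure ({el [0], el [1]} : Set Γ) := by
    intro z hz
    induction hz using Subgroup.closure_induction with
    | mem z hz =>
      rcases hz with rfl | rfl
      · have : (⟨gx, Subgroup.subset_closure (by simp)⟩ : Γ) = el [0] :=
          Subtype.ext (show gx = gx * 1 from (mul_one _).symm)
        rw [this]
        exact Subgroup.subset_closure (by simp)
      · have : (⟨gy, Subgroup.subset_closure (by simp)⟩ : Γ) = el [1] :=
          Subtype.ext (show gy = gy * 1 from (mul_one _).symm)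
        rw [this]
        exact Subgroup.subset_closure (by simp)
    | one => exact Subgroup.one_mem _
    | mul a b ha hb iha ihb => exact Subgroup.mul_mem _ iha ihb
    | inv a ha iha => exact Subgroup.inv_mem _ iha
  rw [eq_top_iff]
  rintro ⟨z, hz⟩ -
  exact h1 z hz

/-- the projection to `M₁₂` -/
def sig : Γ →* Spor.M12 where
  toFun g := ⟨g.1.2, by
    rw [← M12.closure_eq]
    have h1 : g.1.2 ∈ (Subgroup.closure ({gx, gy} : Set GG)).map (MonoidHom.snd _ _) := ⟨g.1, g.2, rfl⟩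
    rw [MonoidHom.map_closure] at h1
    refine Subgroup.closure_mono ?_ h1
    rintro _ ⟨z, (rfl | rfl), rfl⟩
    · exact Or.inl rfl
    · exact Or.inr rfl⟩
  map_one' := rfl
  map_mul' _ _ := rfl

theorem sig_surjective : Function.Surjective sig := by
  rintro ⟨m, hm⟩
  have hm' := hm
  rw [← M12.closure_eq] at hm'
  have h1 : m ∈ (Subgroup.closure ({gx, gy} : Set GG)).map (MonoidHom.snd _ _) := by
    rw [MonoidHom.map_closure]
    refine Subgroup.closure_mono ?_ hm'
    rintro z (rfl | rfl)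
    · exact ⟨gx, Or.inl rfl, rfl⟩
    · exact ⟨gy, Or.inr rfl, rfl⟩
  obtain ⟨g, hg, hgm⟩ := h1
  exact ⟨⟨g, hg⟩, Subtype.ext hgm⟩

/-- the kernel of `sig` -/
theorem eq_of_sig {g : Γ} (h : sig g = 1) : g = 1 ∨ g = neg := by
  obtain ⟨h1, h2, κ, δ, h3, h4⟩ := Gam_le g.2
  have hg : g.1.2 = 1 := congrArg Subtype.val h
  have hidx : ∀ k, idx (g.1.1 k) = idx k := by
    intro k
    have := h2 k
    rw [hg] at this
    exact (rowp_inj _ _ this).symm
  have hκ : ∀ j, κ j = j := by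
    intro j
    have := h3 j
    rw [hg] at this
    exact (colp_inj _ _ this).symm
  -- the signs
  have hsg : ∀ i j, sgn (g.1.1 (pos i)) = δ j := by
    intro i j
    have h5 := h4 (pos i) j
    unfold Hs at h5
    rw [hidx, idx_pos, hκ, sgn_pos, one_mul] at h5
    exact mul_right_cancel₀ (Hm_ne_zero i j) h5
  have hall : ∀ i, sgn (g.1.1 (pos i)) = sgn (g.1.1 (pos 0)) := fun i => by rw [hsg i 0, hsg 0 0]
  rcases sgn_cases (g.1.1 (pos 0)) with h0 | h0
  · left
    apply gext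
    apply Equiv.ext
    intro k
    change g.1.1 k = k
    have hp : ∀ i, g.1.1 (pos i) = pos i := fun i => ext_pt _ _ (hidx _) (by rw [hall, h0, sgn_pos])
    rcases eq_pos_or k with hk | hk
    · rw [hk, hp]
    · rw [hk, h1, hp]
  · right
    apply gext
    apply Equiv.ext
    intro k
    rw [neg_apply]
    have hp : ∀ i, g.1.1 (pos i) = ng (pos i) := fun i => ext_pt _ _ (by rw [hidx, idx_ng])
      (by rw [hall, h0, sgn_ng, sgn_pos])
    rcases eq_pos_or k with hk | hk
    · rw [hk, hp]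
    · rw [hk, h1, hp]

theorem sig_neg : sig neg = 1 := by
  apply Subtype.ext
  apply Equiv.ext
  change ∀ p : GolayPt, neg.1.2 p = p
  decide +kernel

end Cfsg.Agent.H932.Mt
end

-- part: H932/MtRel
section
/-!
# Elements and relations of `2.M₁₂` (helper932)

All relations are equalities of signed permutations checked by the kernel.
-/

set_option autoImplicit false

namespace Cfsg.Agent.H932.Mt

/-- the involution `t` -/
def gt : Γ := el [0, 0, 1, 2, 2]

/-- `i`, `i² = t` -/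
def gi : Γ := el [2, 1, 2, 2, 1, 0, 0, 0, 0, 1, 0, 1, 0, 0]

/-- `j`, `j² = t` -/
def gj : Γ := el [2, 2, 1, 0, 1, 2, 2, 1, 0, 0, 0, 0, 1, 0, 0, 0]

/-- the involution `u`, `u i u = j` -/
def gu : Γ := el [2, 2, 1, 0, 0]

/-- the element `x` of order 3 -/
def gX : Γ := el [1, 2, 1, 2, 2, 1, 0, 1, 2, 2, 1, 0, 0, 1]

/-- the involution `c` -/
def gc : Γ := el [1, 2, 1, 0, 1]

/-- `t` to `u` -/
def htu : Γ := el [2, 2, 2, 2]

/-- `t` to `c` -/
def htc : Γ := el [2, 1, 2]

/-- `i` to `-i` -/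
def hi : Γ := el [0, 0, 0, 0, 1, 0, 0, 0, 1, 0, 0, 0, 1]

/-- `k` to `-k` -/
def hk : Γ := el [0, 1, 0, 1, 0, 0, 0, 1, 0, 0, 0, 1, 0, 0]

/-- an element of order 8 -/
def g8 : Γ := el [2, 1, 2, 2, 1, 0, 0, 0, 0, 1, 0, 0, 0]

/-- inverts `g8` modulo `-1` -/
def yy : Γ := el [1, 2, 1, 2, 1, 0, 1, 0, 1]

/-- `a`, commutes with `t` -/
def ga : Γ := el [1, 0, 1, 2, 2, 2, 1, 0, 0, 0, 1, 2, 1]

/-- `t` to `[a, u]` -/
def gb : Γ := el [1, 0, 1, 2]

/-- `k = i j` -/
def gk : Γ := gi * gj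

/-- `y = i x i⁻¹` -/
def gY : Γ := gi * gX * gi⁻¹

/-- `s = [a, u]` -/
def gs : Γ := ga * gu * ga⁻¹ * gu⁻¹

theorem tt : gt * gt = 1 := gext (by decide +kernel)
theorem ii : gi * gi = gt := gext (by decide +kernel)
theorem jj : gj * gj = gt := gext (by decide +kernel)
theorem kk : gk * gk = gt := gext (by decide +kernel)
theorem ji : gj * gi = gi⁻¹ * gj := gext (by decide +kernel)
theorem uu : gu * gu = 1 := gext (by decide +kernel)
theorem ut : gu * gt = gt * gu := gext (by decide +kernel)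
theorem ui : gu * gi = gj * gu := gext (by decide +kernel)
theorem uk : gu * gk = gk⁻¹ * gu := gext (by decide +kernel)
theorem htu_rel : htu * gt = gu * htu := gext (by decide +kernel)
theorem htc_rel : htc * gt = gc * htc := gext (by decide +kernel)
theorem hi_rel : hi * gi = neg * gi * hi := gext (by decide +kernel)
theorem hk_rel : hk * gk = neg * gk * hk := gext (by decide +kernel)
theorem x3 : gX * gX * gX = 1 := gext (by decide +kernel)
theorem tx : gt * gX = gX⁻¹ * gt := gext (by decide +kernel)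
theorem xy : gX * gY = gY * gX := gext (by decide +kernel)
theorem iX : gi * gX = gY * gi := gext (by decide +kernel)
theorem jX : gj * gX = gX * gY * gj := gext (by decide +kernel)
theorem kX : gk * gX = gX⁻¹ * gY * gk := gext (by decide +kernel)
theorem it : gi * gt = gt * gi := gext (by decide +kernel)
theorem jt : gj * gt = gt * gj := gext (by decide +kernel)
theorem kt : gk * gt = gt * gk := gext (by decide +kernel)
theorem cc : gc * gc = 1 := gext (by decide +kernel)
theorem at' : ga * gt = gt * ga := gext (by decide +kernel)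
theorem gs_rel : gb * gt = gs * gb := gext (by decide +kernel)
theorem ss : gs * gs = 1 := gext (by decide +kernel)
theorem st : gs * gt = gt * gs := gext (by decide +kernel)
theorem g8_sq : g8 * g8 = gk := gext (by decide +kernel)
theorem u8 : gu * g8 = g8 * g8 * g8 * gu := gext (by decide +kernel)
theorem yu : yy * gu = gu * yy := gext (by decide +kernel)
theorem yt : yy * gt = gt * yy := gext (by decide +kernel)
theorem y8 : yy * g8 = neg * g8⁻¹ * yy := gext (by decide +kernel)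
theorem sig_ne {g : Γ} {k l : Fin 24} (h : g.1.1 k ≠ k) (h' : g.1.1 l ≠ ng l) : sig g ≠ 1 := by
  intro h0
  rcases eq_of_sig h0 with h1 | h1
  · apply h
    rw [h1]
    rfl
  · apply h'
    rw [h1, neg_apply]

theorem sig_gt : sig gt ≠ 1 := sig_ne (k := 6) (l := 0) (by decide +kernel) (by decide +kernel)
theorem sig_st : sig (gs * gt) ≠ 1 := sig_ne (k := 0) (l := 0) (by decide +kernel) (by decide +kernel)
theorem sig_gX : sig gX ≠ 1 := sig_ne (k := 6) (l := 0) (by decide +kernel) (by decide +kernel)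

/-- representatives of the cosets of the stabiliser of the first row -/
def trep : List (List ℕ) := [[], [2, 2], [0, 0, 0, 1, 2], [0], [1, 0, 0, 1], [0, 1, 0], [0, 0], [1, 0], [0, 0, 1], [1, 0, 1, 0], [1], [0, 1, 2]]

/-- representatives of the cosets of the stabiliser of the first row -/
def rep (i : Fin 12) : Γ := el (trep.getD i [])

/-- words in `x, t, c, x⁻¹` -/
def ev3 : List ℕ → Γ
  | [] => 1
  | 0 :: w => gX * ev3 w
  | 1 :: w => gt * ev3 w
  | 2 :: w => gc * ev3 w
  | _ :: w => gX⁻¹ * ev3 w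

/-- the Schreier words for `X` -/
def tsx : List (List ℕ) := [[], [2, 3, 2, 1, 2, 0, 1], [1, 2, 0, 2, 1, 0, 2, 0], [], [0, 2], [0, 1, 2, 1, 2, 0, 2], [3, 2, 0, 2, 3], [], [1, 2, 3, 2, 1, 2, 3, 2, 1, 2], [0, 1, 2, 1, 2, 0, 2], [3, 2, 1, 0, 2, 3, 2, 1], [1, 2, 0, 2, 1, 0, 2, 0]]

/-- the Schreier words for `Y` -/
def tsy : List (List ℕ) := [[], [1], [1, 2, 3, 2, 0, 2, 1, 0, 2, 3, 2, 0, 2, 1], [], [], [], [2, 0, 2, 3, 2, 0, 2, 3, 2], [], [], [], [], [3, 2, 1, 2, 0]]

/-- `1` or `-1` according to the sign of a point -/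
def sg (k : Fin 24) : Γ := if sgn k = 1 then 1 else neg

theorem sch_x : ∀ i : Fin 12, (el [0] * rep i).1.1
    = (sg (px (pos i)) * rep (idx (px (pos i))) * ev3 (tsx.getD i [])).1.1 := by decide +kernel

theorem sch_y : ∀ i : Fin 12, (el [1] * rep i).1.1
    = (sg (py (pos i)) * rep (idx (py (pos i))) * ev3 (tsy.getD i [])).1.1 := by decide +kernel

theorem rep_zero : rep 0 = 1 := gext (by decide +kernel)

theorem rep_apply : ∀ i, (rep i).1.1 (pos 0) = pos i := by decide +kernel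

end Cfsg.Agent.H932.Mt
end

-- part: H932/MtRep
section
/-!
# Twelve-dimensional representations of `2.M₁₂`, odd characteristic: the involution `t` (helper932)

`Odd12 ρ` : `ρ` a representation of `Γ = 2.M₁₂` of dimension 12 over a field of characteristic not 2 such that only
the elements of `{1, -1}` act as scalars.

* `n8` : `ρ neg = 1` or `-1` implies that `t` has the eigenvalue `1` with multiplicity 8 and `-1` with multiplicity 4;
* `exists_fix` : characteristic not 3: `x`, `t`, `c` have a common fixed vector.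
-/

set_option autoImplicit false
set_option linter.unusedSectionVars false

namespace Cfsg.Agent.H932.Mt

open Module

variable {F V : Type*} [Field F] [AddCommGroup V] [Module F V] [FiniteDimensional F V]

section basic

variable (ρ : Γ →* Module.End F V)

theorem rmul (g h : Γ) (v : V) : ρ (g * h) v = ρ g (ρ h v) := by rw [map_mul]; rfl

theorem rone (v : V) : ρ 1 v = v := by rw [map_one]; rfl

theorem rinv (g : Γ) (v : V) : ρ g⁻¹ (ρ g v) = v := by rw [← rmul, inv_mul_cancel, rone]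

theorem rinv' (g : Γ) (v : V) : ρ g (ρ g⁻¹ v) = v := by rw [← rmul, mul_inv_cancel, rone]

theorem rinj (g : Γ) {v : V} (h : ρ g v = 0) : v = 0 := by rw [← rinv ρ g v, h, map_zero]

theorem req {g h g' h' : Γ} (hr : h * g = g' * h') (v : V) : ρ h (ρ g v) = ρ g' (ρ h' v) := by
  rw [← rmul, ← rmul, hr]

theorem es_conj_le {h g g' : Γ} (hr : h * g = g' * h) (c : F) : finrank F (es (ρ g) c) ≤ finrank F (es (ρ g') c) := by
  apply le_of_inj (ρ h)
  · intro v hv
    rw [mem_es, ← req ρ hr, mem_es.1 hv, map_smul]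
  · intro v _ h0
    exact rinj ρ h h0

theorem es_conj {h g g' : Γ} (hr : h * g = g' * h) (c : F) : finrank F (es (ρ g) c) = finrank F (es (ρ g') c) := by
  apply le_antisymm (es_conj_le ρ hr c)
  apply es_conj_le ρ (h := h⁻¹)
  rw [inv_mul_eq_iff_eq_mul, ← mul_assoc, hr, mul_inv_cancel_right]

theorem es_conj_neg (hneg : ρ neg = -1) {h g g' : Γ} (hr : h * g = neg * g' * h) (c : F) :
    finrank F (es (ρ g) c) = finrank F (es (ρ g') (-c)) := by
  have h1 : es (ρ (neg * g')) c = es (ρ g') (-c) := by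
    ext v
    rw [mem_es, mem_es, rmul, hneg]
    change -(ρ g' v) = c • v ↔ _
    rw [neg_smul, neg_eq_iff_eq_neg]
  rw [es_conj ρ hr c, h1]

end basic

/-- 12-dimensional representations in odd characteristic -/
structure Odd12 (ρ : Γ →* Module.End F V) : Prop where
  two : (2 : F) ≠ 0
  dim : finrank F V = 12
  ns : ∀ g, sig g ≠ 1 → ∀ c : F, ρ g ≠ c • (1 : Module.End F V)

namespace Odd12

variable {ρ : Γ →* Module.End F V} (H : Odd12 ρ)
include H

theorem two_one : (2 : F) * 1 ≠ 0 := by rw [mul_one]; exact H.two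

/-- an involution on a stable subspace -/
theorem sp (W : Submodule F V) (A : Module.End F V) (hA : ∀ v ∈ W, A v ∈ W) (hA2 : ∀ v ∈ W, A (A v) = v) :
    finrank F W = finrank F (W ⊓ es A 1 : Submodule F V) + finrank F (W ⊓ es A (-1) : Submodule F V) :=
  split W A H.two_one hA (fun v hv => by rw [hA2 v hv, one_mul, one_smul])

theorem T_T (v : V) : ρ gt (ρ gt v) = v := by rw [← rmul, tt, rone]

theorem sum_t : finrank F (es (ρ gt) 1) + finrank F (es (ρ gt) (-1)) = 12 := by
  have h1 := H.sp ⊤ (ρ gt) (fun v _ => Submodule.mem_top) (fun v _ => H.T_T v)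
  rw [finrank_inf_top, finrank_inf_top, finrank_top, H.dim] at h1
  exact h1.symm

theorem comm_es {g : Γ} (hg : g * gt = gt * g) (c : F) {v : V} (hv : v ∈ es (ρ gt) c) : ρ g v ∈ es (ρ gt) c := by
  rw [mem_es, ← req ρ hg, mem_es.1 hv, map_smul]

theorem es_disj {v : V} (h1 : v ∈ es (ρ gt) 1) (h2 : v ∈ es (ρ gt) (-1)) : v = 0 := by
  rw [mem_es_one] at h1
  rw [mem_es_neg_one, h1] at h2
  have h3 : (2 : F) • v = 0 := by
    rw [two_smul]
    nth_rewrite 1 [h2]
    rw [neg_add_cancel]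
  exact (smul_eq_zero.1 h3).resolve_left H.two

/-- `u` anticommutes with `k` on the `-1`-eigenspace of `t` -/
theorem u_neg : finrank F (es (ρ gt) (-1) ⊓ es (ρ gu) 1 : Submodule F V)
    = finrank F (es (ρ gt) (-1) ⊓ es (ρ gu) (-1) : Submodule F V) := by
  apply anti _ (ρ gu) (ρ gk) 1
  · intro v hv
    exact H.comm_es kt (-1) hv
  · intro v _ h0
    exact rinj ρ gk h0
  · intro v hv
    rw [req ρ uk]
    have h1 : ρ gu v ∈ es (ρ gt) (-1) := H.comm_es ut (-1) hv
    -- `k⁻¹ = - k` there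
    have h2 : ∀ w ∈ es (ρ gt) (-1), ρ gk⁻¹ w = -(ρ gk w) := by
      intro w hw
      have h3 : ρ gk (ρ gk w) = -w := by
        rw [← rmul, kk]
        exact mem_es_neg_one.1 hw
      have h4 := rinv ρ gk (ρ gk w)
      rw [h3, map_neg] at h4
      rw [← h4, neg_neg]
    exact h2 _ h1

theorem u_u (v : V) : ρ gu (ρ gu v) = v := by rw [← rmul, uu, rone]

theorem two_mul_u : finrank F (es (ρ gt) (-1)) = 2 * finrank F (es (ρ gt) (-1) ⊓ es (ρ gu) 1 : Submodule F V) := by
  have h1 := H.sp (es (ρ gt) (-1)) (ρ gu) (fun v hv => H.comm_es ut (-1) hv) (fun v _ => H.u_u v)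
  rw [← H.u_neg] at h1
  omega

theorem t_ne_top : finrank F (es (ρ gt) 1) ≠ 12 := by
  intro h
  have h1 : es (ρ gt) 1 = ⊤ := Submodule.eq_top_of_finrank_eq (by rw [h, H.dim])
  apply H.ns gt sig_gt 1
  apply LinearMap.ext
  intro v
  have : v ∈ es (ρ gt) 1 := by rw [h1]; trivial
  exact mem_es.1 this

theorem t_ne_bot : finrank F (es (ρ gt) (-1)) ≠ 12 := by
  intro h
  have h1 : es (ρ gt) (-1) = ⊤ := Submodule.eq_top_of_finrank_eq (by rw [h, H.dim])
  apply H.ns gt sig_gt (-1)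
  apply LinearMap.ext
  intro v
  have : v ∈ es (ρ gt) (-1) := by rw [h1]; trivial
  exact mem_es.1 this

/-- the multiplicity 4 of the eigenvalue `1` is impossible -/
theorem ne_four : finrank F (es (ρ gt) 1) ≠ 4 := by
  intro h
  have hm : finrank F (es (ρ gt) (-1)) = 8 := by have := H.sum_t; omega
  have h1 := H.two_mul_u
  have h3 : finrank F (es (ρ gu) 1) = 4 := by rw [← es_conj ρ htu_rel, h]
  have h4 : es (ρ gt) (-1) ⊓ es (ρ gu) 1 = es (ρ gu) 1 := by
    apply Submodule.eq_of_le_of_finrank_eq inf_le_right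
    omega
  -- `u = -1` on the `1`-eigenspace of `t`
  have hu : ∀ v ∈ es (ρ gt) 1, ρ gu v = -v := by
    intro v hv
    have h5 : v + ρ gu v ∈ es (ρ gt) 1 := Submodule.add_mem _ hv (H.comm_es ut 1 hv)
    have h6 : v + ρ gu v ∈ es (ρ gu) 1 := by
      rw [mem_es_one, map_add, H.u_u, add_comm]
    rw [← h4] at h6
    have h7 := H.es_disj h5 h6.1
    rw [add_comm] at h7
    exact eq_neg_of_add_eq_zero_left h7
  have hui : ∀ v ∈ es (ρ gt) 1, ρ gu⁻¹ v = -v := by
    intro v hv
    have h5 := rinv ρ gu v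
    rw [hu v hv, map_neg] at h5
    exact neg_eq_iff_eq_neg.1 h5
  have hai : ∀ v ∈ es (ρ gt) 1, ρ ga⁻¹ v ∈ es (ρ gt) 1 := by
    intro v hv
    apply H.comm_es _ 1 hv
    rw [inv_mul_eq_iff_eq_mul, ← mul_assoc, at', mul_inv_cancel_right]
  have hs : ∀ v ∈ es (ρ gt) 1, ρ gs v = v := by
    intro v hv
    unfold gs
    rw [rmul, rmul, rmul, hui v hv, map_neg, hu _ (Submodule.neg_mem _ (hai v hv)), map_neg, map_neg, rinv', neg_neg]
  have hse : es (ρ gt) 1 = es (ρ gs) 1 := by
    apply Submodule.eq_of_le_of_finrank_eq (fun v hv => mem_es_one.2 (hs v hv))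
    rw [es_conj ρ gs_rel]
  have hs' : ∀ v ∈ es (ρ gt) (-1), ρ gs v = -v := by
    intro v hv
    have h5 : v + ρ gs v ∈ es (ρ gt) (-1) := Submodule.add_mem _ hv (H.comm_es st (-1) hv)
    have h6 : v + ρ gs v ∈ es (ρ gs) 1 := by
      rw [mem_es_one, map_add, ← rmul, ss, rone, add_comm]
    rw [← hse] at h6
    have h7 := H.es_disj h6 h5
    rw [add_comm] at h7
    exact eq_neg_of_add_eq_zero_left h7
  apply H.ns (gs * gt) sig_st 1
  apply LinearMap.ext
  intro v
  -- decompose `v`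
  have h8 : ρ (gs * gt) (v + ρ gt v) = v + ρ gt v := by
    have h9 : v + ρ gt v ∈ es (ρ gt) 1 := by
      rw [mem_es_one, map_add, H.T_T, add_comm]
    rw [rmul, mem_es_one.1 h9, hs _ h9]
  have h8' : ρ (gs * gt) (v - ρ gt v) = v - ρ gt v := by
    have h9 : v - ρ gt v ∈ es (ρ gt) (-1) := by
      rw [mem_es_neg_one, map_sub, H.T_T, neg_sub]
    rw [rmul, mem_es_neg_one.1 h9, map_neg, hs' _ h9, neg_neg]
  have h10 : (2 : F) • ρ (gs * gt) v = (2 : F) • v := by
    have h11 : (2 : F) • v = (v + ρ gt v) + (v - ρ gt v) := by rw [two_smul]; abel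
    rw [← map_smul, h11, map_add, h8, h8']
  have h12 := smul_right_injective V H.two h10
  rw [LinearMap.smul_apply, one_smul]
  exact h12

/-- `ρ(-1) = -1` : the multiplicity is divisible by 4 -/
theorem four_dvd_neg (hneg : ρ neg = -1) : 4 ∣ finrank F (es (ρ gt) 1) := by
  set E := es (ρ gt) 1 with hE
  -- the operators `i`, `j`, `k` on `E`
  have hst : ∀ {g : Γ}, g * gt = gt * g → ∀ v ∈ E, ρ g v ∈ E := fun hg v hv => H.comm_es hg 1 hv
  have hsq : ∀ {g : Γ}, g * g = gt → ∀ v ∈ E, ρ g (ρ g v) = v := by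
    intro g hg v hv
    rw [← rmul, hg]
    exact mem_es_one.1 hv
  -- eigenvectors of `g`, `g² = t`, for `±1` lie in `E`
  have hin : ∀ {g : Γ}, g * g = gt → ∀ c : F, c * c = 1 → E ⊓ es (ρ g) c = es (ρ g) c := by
    intro g hg c hc
    apply inf_eq_right.2
    intro v hv
    rw [hE, mem_es_one, ← hg, rmul, mem_es.1 hv, map_smul, mem_es.1 hv, smul_smul, hc, one_smul]
  have h1 : finrank F (es (ρ gi) 1) = finrank F (es (ρ gi) (-1)) := es_conj_neg ρ hneg hi_rel 1
  have h2 : finrank F (es (ρ gk) 1) = finrank F (es (ρ gk) (-1)) := es_conj_neg ρ hneg hk_rel 1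
  have h3 : ∀ c : F, finrank F (es (ρ gi) c) = finrank F (es (ρ gj) c) := fun c => es_conj ρ ui c
  -- splittings
  have hci : ∀ v ∈ E, ρ gj (ρ gi v) = ρ gi (ρ gj v) := by
    intro v hv
    have h4 := hsq ii _ (hst jt v hv)
    have h5 := rinv ρ gi (ρ gi (ρ gj v))
    rw [h4] at h5
    rw [req ρ ji, h5]
  have hk : ∀ v, ρ gk v = ρ gi (ρ gj v) := fun v => rmul ρ gi gj v
  have sE := H.sp E (ρ gi) (hst it) (hsq ii)
  rw [hin ii 1 (by ring), hin ii (-1) (by ring)] at sE
  -- inside the eigenspaces of `i`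
  have si : ∀ c : F, c * c = 1 → finrank F (es (ρ gi) c) =
      finrank F (es (ρ gi) c ⊓ es (ρ gj) 1 : Submodule F V) + finrank F (es (ρ gi) c ⊓ es (ρ gj) (-1) : Submodule F V) := by
    intro c hc
    apply H.sp
    · intro v hv
      have hvE : v ∈ E := by rw [← hin ii c hc] at hv; exact hv.1
      rw [mem_es, ← hci v hvE, mem_es.1 hv, map_smul]
    · intro v hv
      have hvE : v ∈ E := by rw [← hin ii c hc] at hv; exact hv.1
      exact hsq jj v hvE
  have sj : ∀ c : F, c * c = 1 → finrank F (es (ρ gj) c) =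
      finrank F (es (ρ gj) c ⊓ es (ρ gi) 1 : Submodule F V) + finrank F (es (ρ gj) c ⊓ es (ρ gi) (-1) : Submodule F V) := by
    intro c hc
    apply H.sp
    · intro v hv
      have hvE : v ∈ E := by rw [← hin jj c hc] at hv; exact hv.1
      rw [mem_es, hci v hvE, mem_es.1 hv, map_smul]
    · intro v hv
      have hvE : v ∈ E := by rw [← hin jj c hc] at hv; exact hv.1
      exact hsq ii v hvE
  have sk : ∀ c : F, c * c = 1 → finrank F (es (ρ gk) c) =
      finrank F (es (ρ gk) c ⊓ es (ρ gi) 1 : Submodule F V) + finrank F (es (ρ gk) c ⊓ es (ρ gi) (-1) : Submodule F V) := by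
    intro c hc
    apply H.sp
    · intro v hv
      have hvE : v ∈ E := by rw [← hin kk c hc] at hv; exact hv.1
      rw [mem_es, hk, hci v hvE, ← hk, mem_es.1 hv, map_smul]
    · intro v hv
      have hvE : v ∈ E := by rw [← hin kk c hc] at hv; exact hv.1
      exact hsq ii v hvE
  -- identify the intersections
  have e1 : es (ρ gj) 1 ⊓ es (ρ gi) 1 = es (ρ gi) 1 ⊓ es (ρ gj) 1 := inf_comm _ _
  have e2 : es (ρ gj) 1 ⊓ es (ρ gi) (-1) = es (ρ gi) (-1) ⊓ es (ρ gj) 1 := inf_comm _ _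
  have e3 : es (ρ gj) (-1) ⊓ es (ρ gi) 1 = es (ρ gi) 1 ⊓ es (ρ gj) (-1) := inf_comm _ _
  have e4 : es (ρ gj) (-1) ⊓ es (ρ gi) (-1) = es (ρ gi) (-1) ⊓ es (ρ gj) (-1) := inf_comm _ _
  have key : ∀ c d : F, c * c = 1 → d * d = 1 → es (ρ gk) d ⊓ es (ρ gi) c = es (ρ gi) c ⊓ es (ρ gj) (c * d) := by
    intro c d hc hd
    ext v
    constructor
    · rintro ⟨h5, h6⟩
      refine ⟨h6, ?_⟩
      have hvE : v ∈ E := by
        have : v ∈ E ⊓ es (ρ gi) c := by rw [hin ii c hc]; exact h6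
        exact this.1
      have h7 : ρ gi (ρ gj v) = d • v := by rw [← hk]; exact mem_es.1 h5
      rw [← hci v hvE, mem_es.1 h6, map_smul] at h7
      rw [SetLike.mem_coe, mem_es, mul_smul, ← h7, smul_smul, hc, one_smul]
    · rintro ⟨h5, h6⟩
      refine ⟨?_, h5⟩
      rw [SetLike.mem_coe, mem_es, hk, mem_es.1 h6, map_smul, mem_es.1 h5, smul_smul]
      congr 1
      linear_combination d * hc
  have k1 := key 1 1 (by ring) (by ring)
  have k2 := key 1 (-1) (by ring) (by ring)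
  have k3 := key (-1) 1 (by ring) (by ring)
  have k4 := key (-1) (-1) (by ring) (by ring)
  simp only [one_mul, mul_one, neg_mul, neg_neg] at k1 k2 k3 k4
  have i1 := si 1 (by ring)
  have i2 := si (-1) (by ring)
  have j1 := sj 1 (by ring)
  have j2 := sj (-1) (by ring)
  have l1 := sk 1 (by ring)
  have l2 := sk (-1) (by ring)
  rw [e1, e2] at j1
  rw [e3, e4] at j2
  rw [k1, k3] at l1
  rw [k2, k4] at l2
  have m1 := h3 1
  have m2 := h3 (-1)
  omega

/-- `ρ(-1) = 1` : the multiplicity is divisible by 4 -/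
theorem four_dvd_pos (hpos : ρ neg = 1) : 4 ∣ finrank F (es (ρ gt) (-1)) := by
  set E := es (ρ gt) (-1) with hE
  set P : Submodule F V := E ⊓ es (ρ gu) 1 with hP
  have h1 := H.two_mul_u
  have c8 : g8 * gt = gt * g8 := by
    rw [← kk, ← g8_sq]
    simp only [mul_assoc]
  have t8 : ∀ v ∈ E, ρ g8 (ρ g8 (ρ g8 (ρ g8 v))) = -v := by
    intro v hv
    have : g8 * g8 * g8 * g8 = gt := by
      rw [← kk, ← g8_sq]
      simp only [mul_assoc]
    rw [← rmul, ← rmul, ← rmul, this]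
    exact mem_es_neg_one.1 hv
  have inv8 : ∀ v ∈ E, ρ g8⁻¹ v = -(ρ g8 (ρ g8 (ρ g8 v))) := by
    intro v hv
    have h2 := rinv ρ g8 (ρ g8 (ρ g8 (ρ g8 v)))
    rw [t8 v hv, map_neg] at h2
    rw [← h2, neg_neg]
  have E8 : ∀ v ∈ E, ρ g8 v ∈ E := fun v hv => H.comm_es c8 (-1) hv
  have u8' : ∀ v, ρ gu (ρ g8 v) = ρ g8 (ρ g8 (ρ g8 (ρ gu v))) := by
    intro v
    rw [← rmul, u8]
    simp only [rmul]
  have y8' : ∀ v, ρ yy (ρ g8 v) = ρ g8⁻¹ (ρ yy v) := by
    intro v
    rw [← rmul, y8]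
    simp only [rmul, hpos]
    rfl
  let B : Module.End F V := ρ g8 + ρ g8 * ρ g8 * ρ g8
  have hB : ∀ v, B v = ρ g8 v + ρ g8 (ρ g8 (ρ g8 v)) := fun v => rfl
  have B_P : ∀ v ∈ P, B v ∈ P := by
    rintro v ⟨hv, hv'⟩
    have h3 : ρ gu v = v := mem_es_one.1 hv'
    refine ⟨E.add_mem (E8 v hv) (E8 _ (E8 _ (E8 _ hv))), ?_⟩
    rw [SetLike.mem_coe, mem_es_one, hB, map_add, u8', u8', u8', u8', h3]
    rw [t8 _ (E8 _ (E8 _ (E8 _ (E8 _ (E8 _ hv)))))]
    rw [t8 _ (E8 _ hv), neg_neg, add_comm]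
  have BB : ∀ v ∈ E, B (B v) = (-2 : F) • v := by
    intro v hv
    rw [hB, hB, map_add, map_add, map_add, t8 _ hv, map_neg, map_neg, neg_smul, two_smul]
    have h4 : ρ g8 (ρ g8 v) + -v + (-v + -ρ g8 (ρ g8 v)) = -(v + v) := by abel
    exact h4
  have y_P : ∀ v ∈ P, ρ yy v ∈ P := by
    rintro v ⟨hv, hv'⟩
    refine ⟨H.comm_es yt (-1) hv, ?_⟩
    rw [SetLike.mem_coe, mem_es_one, ← req ρ yu, mem_es_one.1 hv']
  have hy : ∀ v ∈ P, ρ yy (B v) = -(B (ρ yy v)) := by
    rintro v ⟨hv, hv'⟩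
    have h5 : ρ yy v ∈ E := H.comm_es yt (-1) hv
    have i1 : ∀ w ∈ E, ρ g8⁻¹ w ∈ E := by
      intro w hw
      rw [inv8 w hw]
      exact E.neg_mem (E8 _ (E8 _ (E8 _ hw)))
    rw [hB, map_add, y8', y8', y8', y8', hB, inv8 _ h5]
    have h6 : ρ g8⁻¹ (ρ g8⁻¹ (-(ρ g8 (ρ g8 (ρ g8 (ρ yy v)))))) = -(ρ g8 (ρ yy v)) := by
      rw [map_neg, rinv, map_neg, rinv]
    rw [h6]
    abel
  have hev : Even (finrank F P) := by
    apply even_of_anti H.two P (ρ yy) B y_P B_P
    · intro v _ h0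
      exact rinj ρ yy h0
    · rintro v ⟨hv, _⟩ h0
      have h7 := BB v hv
      rw [h0, map_zero] at h7
      exact (smul_eq_zero.1 h7.symm).resolve_left (neg_ne_zero.2 H.two)
    · exact hy
  obtain ⟨k, hk⟩ := hev
  refine ⟨k, ?_⟩
  rw [h1, hk]
  ring

theorem n8 (hn : ρ neg = 1 ∨ ρ neg = -1) : finrank F (es (ρ gt) 1) = 8 := by
  have h1 := H.sum_t
  have h2 := H.t_ne_top
  have h3 := H.t_ne_bot
  have h4 := H.ne_four
  rcases hn with hn | hn
  · have h5 := H.four_dvd_pos hn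
    omega
  · have h5 := H.four_dvd_neg hn
    omega

/-- `v + g v + g² v` -/
def tri (ρ : Γ →* Module.End F V) (g : Γ) : Module.End F V := 1 + ρ g + ρ g * ρ g

omit H in
theorem tri_apply (g : Γ) (v : V) : tri ρ g v = v + ρ g v + ρ g (ρ g v) := rfl

omit H in
theorem tri_conj {h g g' : Γ} (hr : h * g = g' * h) (v : V) : ρ h (tri ρ g v) = tri ρ g' (ρ h v) := by
  rw [tri_apply, tri_apply, map_add, map_add, req ρ hr, req ρ hr, req ρ hr]

omit H in
theorem XXX (v : V) : ρ gX (ρ gX (ρ gX v)) = v := by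
  rw [← rmul, ← rmul, x3, rone]

omit H in
theorem Xinv (v : V) : ρ gX⁻¹ v = ρ gX (ρ gX v) := by
  have h := rinv ρ gX (ρ gX (ρ gX v))
  rw [XXX] at h
  exact h

omit H in
theorem tri_T (v : V) : tri ρ gX (ρ gt v) = ρ gt (tri ρ gX v) := by
  have h1 : ∀ w, ρ gt (ρ gX w) = ρ gX (ρ gX (ρ gt w)) := fun w => by rw [req ρ tx, Xinv]
  rw [tri_apply, tri_apply, map_add, map_add, h1, h1, h1, XXX]
  abel

/-- the fixed space of `⟨x, t⟩` -/
theorem five_le (hn : ρ neg = 1 ∨ ρ neg = -1) (h3 : (3 : F) ≠ 0) :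
    5 ≤ finrank F (es (ρ gX) 1 ⊓ es (ρ gt) 1 : Submodule F V) := by
  have n8 := H.n8 hn
  have hs := H.sum_t
  set A : Module.End F V := (2 : F) • tri ρ gX - (3 : F) • 1 with hA
  have hAv : ∀ v, A v = (2 : F) • tri ρ gX v - (3 : F) • v := fun v => rfl
  have hXS : ∀ v, ρ gX (tri ρ gX v) = tri ρ gX v := by
    intro v
    rw [tri_apply, map_add, map_add, XXX]
    abel
  have hSS : ∀ v, tri ρ gX (tri ρ gX v) = (3 : F) • tri ρ gX v := by
    intro v
    rw [tri_apply gX (tri ρ gX v), hXS, hXS]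
    have : (3 : F) = 1 + 1 + 1 := by norm_num
    rw [this, add_smul, add_smul, one_smul]
  have hAA : ∀ v, A (A v) = ((3 : F) * 3) • v := by
    intro v
    rw [hAv, hAv, map_sub, map_smul, map_smul, hSS]
    module
  have h6 : (2 : F) * 3 ≠ 0 := mul_ne_zero H.two h3
  have hAT : ∀ c : F, ∀ v ∈ es (ρ gt) c, A v ∈ es (ρ gt) c := by
    intro c v hv
    rw [mem_es, hAv, map_sub, map_smul, map_smul, ← tri_T, mem_es.1 hv, map_smul]
    module
  have s1 := split (es (ρ gt) 1) A h6 (hAT 1) (fun v _ => hAA v)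
  have s2 := split (es (ρ gt) (-1)) A h6 (hAT (-1)) (fun v _ => hAA v)
  -- the eigenspaces of `A`
  have eA : ∀ v, v ∈ es A 3 → v ∈ es (ρ gX) 1 := by
    intro v hv
    rw [mem_es, hAv] at hv
    have h7 : (2 : F) • tri ρ gX v = (2 : F) • ((3 : F) • v) := by
      rw [sub_eq_iff_eq_add] at hv
      rw [hv]
      module
    have h8 := smul_right_injective V H.two h7
    have h9 := hXS v
    rw [h8, map_smul] at h9
    rw [mem_es_one]
    exact smul_right_injective V h3 h9
  have eB : ∀ v, v ∈ es A (-3) ↔ tri ρ gX v = 0 := by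
    intro v
    rw [mem_es, hAv]
    constructor
    · intro hv
      have h7 : (2 : F) • tri ρ gX v = 0 := by
        rw [sub_eq_iff_eq_add] at hv
        rw [hv]
        module
      exact (smul_eq_zero.1 h7).resolve_left H.two
    · intro hv
      rw [hv, smul_zero, zero_sub, neg_smul]
  -- `N = x - x⁻¹`
  have a1 : finrank F (es A (-3) ⊓ es (ρ gt) 1 : Submodule F V) = finrank F (es A (-3) ⊓ es (ρ gt) (-1) : Submodule F V) := by
    apply anti _ (ρ gt) (ρ gX - ρ gX * ρ gX) 1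
    · intro v hv
      rw [eB] at hv ⊢
      have h7 : (ρ gX - ρ gX * ρ gX) v = ρ gX v - ρ gX (ρ gX v) := rfl
      have h8 : ∀ w, tri ρ gX (ρ gX w) = ρ gX (tri ρ gX w) := by
        intro w
        rw [tri_apply, tri_apply, map_add, map_add]
      rw [h7, map_sub, h8, h8, h8, hv, map_zero, map_zero, sub_zero]
    · intro v hv h0
      rw [eB, tri_apply] at hv
      have h7 : ρ gX v - ρ gX (ρ gX v) = 0 := h0
      have h8 : ρ gX (ρ gX v) = ρ gX v := (sub_eq_zero.1 h7).symm
      have h9 : ρ gX v = v := by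
        have h10 := congrArg (ρ gX⁻¹) h8
        rwa [rinv, rinv] at h10
      rw [h9, h9] at hv
      have h10 : (3 : F) • v = 0 := by rw [← hv]; module
      exact (smul_eq_zero.1 h10).resolve_left h3
    · intro v _
      have h1 : ∀ w, ρ gt (ρ gX w) = ρ gX (ρ gX (ρ gt w)) := fun w => by rw [req ρ tx, Xinv]
      change ρ gt (ρ gX v - ρ gX (ρ gX v)) = -(ρ gX (ρ gt v) - ρ gX (ρ gX (ρ gt v)))
      rw [map_sub, h1, h1, h1, XXX]
      abel
  rw [inf_comm, inf_comm (es A (-3)) (es (ρ gt) (-1))] at a1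
  have h7 : finrank F (es (ρ gt) (-1) ⊓ es A (-3) : Submodule F V) ≠ 4 := by
    intro h4
    have h8 : es (ρ gt) (-1) ⊓ es A (-3) = es (ρ gt) (-1) := by
      apply Submodule.eq_of_le_of_finrank_eq inf_le_left
      omega
    have h9 : ∀ v ∈ es (ρ gt) (-1), tri ρ gX v = 0 := by
      intro v hv
      rw [← h8] at hv
      exact (eB v).1 hv.2
    have h10 : ∀ {h g' : Γ}, h * gX = g' * h → h * gt = gt * h → ∀ v ∈ es (ρ gt) (-1), tri ρ g' v = 0 := by
      intro h g' hr hc v hv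
      have h11 : ρ h⁻¹ v ∈ es (ρ gt) (-1) := by
        apply H.comm_es _ (-1) hv
        rw [inv_mul_eq_iff_eq_mul, ← mul_assoc, hc, mul_inv_cancel_right]
      have h12 := tri_conj (ρ := ρ) hr (ρ h⁻¹ v)
      rw [h9 _ h11, map_zero, rinv'] at h12
      exact h12.symm
    have hex : ∃ v ∈ es (ρ gt) (-1), v ≠ 0 := by
      have h13 : es (ρ gt) (-1) ≠ ⊥ := by
        intro h14
        rw [h14, finrank_bot] at hs
        omega
      exact (Submodule.ne_bot_iff _).1 h13
    obtain ⟨v, hv, hv0⟩ := hex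
    have q1 := h9 v hv
    have q2 := h10 iX it v hv
    have q3 := h10 jX jt v hv
    have q4 := h10 kX kt v hv
    have c1 : ∀ w, ρ gY (ρ gX w) = ρ gX (ρ gY w) := fun w => (req ρ xy w).symm
    have q5 : tri ρ gX (tri ρ gY v) = 0 := by rw [q2, map_zero]
    rw [tri_apply] at q1 q2 q3 q4 q5
    rw [tri_apply] at q5
    simp only [rmul, Xinv, map_add, c1] at q1 q2 q3 q4 q5
    rw [XXX] at q4
    have q6 : (3 : F) • v = (v + ρ gX v + ρ gX (ρ gX v)) + (v + ρ gY v + ρ gY (ρ gY v))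
        + (v + ρ gX (ρ gY v) + ρ gX (ρ gX (ρ gY (ρ gY v)))) + (v + ρ gX (ρ gX (ρ gY v)) + ρ gX (ρ gY (ρ gY v)))
        - (v + ρ gY v + ρ gY (ρ gY v) + (ρ gX v + ρ gX (ρ gY v) + ρ gX (ρ gY (ρ gY v)))
          + (ρ gX (ρ gX v) + ρ gX (ρ gX (ρ gY v)) + ρ gX (ρ gX (ρ gY (ρ gY v))))) := by module
    rw [q5, q1, q2, q3, q4] at q6
    simp only [add_zero, sub_zero] at q6
    exact hv0 ((smul_eq_zero.1 q6).resolve_left h3)
  have h8 : finrank F (es (ρ gt) (-1) ⊓ es A (-3) : Submodule F V) ≤ finrank F (es (ρ gt) (-1)) :=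
    Submodule.finrank_mono inf_le_left
  have h9 : finrank F (es (ρ gt) 1 ⊓ es A 3 : Submodule F V) ≤ finrank F (es (ρ gX) 1 ⊓ es (ρ gt) 1 : Submodule F V) :=
    Submodule.finrank_mono (fun v hv => ⟨eA v hv.2, hv.1⟩)
  omega

/-- a common fixed vector of `x`, `t`, `c` -/
theorem exists_fix (hn : ρ neg = 1 ∨ ρ neg = -1) (h3 : (3 : F) ≠ 0) :
    ∃ v : V, v ≠ 0 ∧ ρ gX v = v ∧ ρ gt v = v ∧ ρ gc v = v := by
  have h1 := H.five_le hn h3
  have h2 : finrank F (es (ρ gc) 1) = 8 := by rw [← es_conj ρ htc_rel, H.n8 hn]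
  obtain ⟨v, hv, hv0⟩ := exists_inf (U := es (ρ gX) 1 ⊓ es (ρ gt) 1) (U' := es (ρ gc) 1) (by rw [H.dim]; omega)
  exact ⟨v, hv0, mem_es_one.1 hv.1.1, mem_es_one.1 hv.1.2, mem_es_one.1 hv.2⟩

end Odd12

end Cfsg.Agent.H932.Mt
end

-- part: H932/MtIso
section
/-!
# Twelve-dimensional irreducible representations of `2.M₁₂`, characteristic not 2, 3 (helper932)

* `act` : if `v₀` is fixed by `x`, `t`, `c`, then the vectors `vec ρ v₀ k` are permuted by `Γ` as the 24 signed points;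
* `not_pos` : `ρ(-1) ≠ 1`;
* `exists_basis` : `ρ` is the representation by signed permutations.
-/

set_option autoImplicit false
set_option linter.unusedSectionVars false

namespace Cfsg.Agent.H932.Mt

open Module

variable {F V : Type*} [Field F] [AddCommGroup V] [Module F V] [FiniteDimensional F V]

/-- irreducible -/
def Irr (ρ : Γ →* Module.End F V) : Prop :=
  ∀ W : Submodule F V, (∀ g, ∀ v ∈ W, ρ g v ∈ W) → W = ⊥ ∨ W = ⊤

/-- the images of `v₀` -/
def vec (ρ : Γ →* Module.End F V) (v0 : V) (k : Fin 24) : V := ρ (sg k * rep (idx k)) v0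

section act

variable {ρ : Γ →* Module.End F V} {v0 : V}

theorem fix_inv {g : Γ} (h : ρ g v0 = v0) : ρ g⁻¹ v0 = v0 := by
  have h1 := rinv ρ g v0
  rwa [h] at h1

theorem ev3_c0 (w : List ℕ) : ev3 (0 :: w) = gX * ev3 w := by
  with_unfolding_all rfl
theorem ev3_c1 (w : List ℕ) : ev3 (1 :: w) = gt * ev3 w := by
  with_unfolding_all rfl
theorem ev3_c2 (w : List ℕ) : ev3 (2 :: w) = gc * ev3 w := by
  with_unfolding_all rfl
theorem ev3_c3 (a : ℕ) (w : List ℕ) : ev3 ((a + 3) :: w) = gX⁻¹ * ev3 w := by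
  with_unfolding_all rfl

theorem ev3_fix (hX : ρ gX v0 = v0) (hT : ρ gt v0 = v0) (hC : ρ gc v0 = v0) (w : List ℕ) : ρ (ev3 w) v0 = v0 := by
  induction w with
  | nil => exact rone ρ v0
  | cons a w ih =>
    rcases a with _ | _ | _ | a
    · rw [ev3_c0, rmul, ih, hX]
    · rw [ev3_c1, rmul, ih, hT]
    · rw [ev3_c2, rmul, ih, hC]
    · rw [ev3_c3, rmul, ih, fix_inv hX]

theorem sg_ng (k : Fin 24) : sg (ng k) = neg * sg k := by
  unfold sg
  rw [sgn_ng]
  rcases sgn_cases k with h | h <;> rw [h]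
  · norm_num
  · rw [if_pos (by norm_num), if_neg (by norm_num), neg_mul_neg']

theorem vec_ng (k : Fin 24) : vec ρ v0 (ng k) = ρ neg (vec ρ v0 k) := by
  unfold vec
  rw [sg_ng, idx_ng, mul_assoc, rmul]

theorem vec_pos (i : Fin 12) : vec ρ v0 (pos i) = ρ (rep i) v0 := by
  unfold vec sg
  rw [sgn_pos, if_pos rfl, idx_pos, one_mul]

theorem vec_zero : vec ρ v0 (pos 0) = v0 := by
  rw [vec_pos, rep_zero, rone]

theorem act_of {a : Γ} {π : Equiv.Perm (Fin 24)} (ha : a.1.1 = π) {ts : List (List ℕ)}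
    (hsch : ∀ i : Fin 12, (a * rep i).1.1 = (sg (π (pos i)) * rep (idx (π (pos i))) * ev3 (ts.getD i [])).1.1)
    (hX : ρ gX v0 = v0) (hT : ρ gt v0 = v0) (hC : ρ gc v0 = v0) (k : Fin 24) :
    ρ a (vec ρ v0 k) = vec ρ v0 (a.1.1 k) := by
  have h1 : ∀ i, ρ a (vec ρ v0 (pos i)) = vec ρ v0 (a.1.1 (pos i)) := by
    intro i
    rw [vec_pos, ← rmul, gext (hsch i), rmul, ev3_fix hX hT hC, ha]
    rfl
  rcases eq_pos_or k with hk | hk
  · rw [hk, h1]
  · rw [hk, vec_ng, ← rmul, ← neg_comm, rmul, h1, ng_comm, vec_ng]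

theorem act (hX : ρ gX v0 = v0) (hT : ρ gt v0 = v0) (hC : ρ gc v0 = v0) (g : Γ) :
    ∀ k, ρ g (vec ρ v0 k) = vec ρ v0 (g.1.1 k) := by
  have hg : g ∈ Subgroup.closure ({el [0], el [1]} : Set Γ) := by rw [closure_gens]; trivial
  induction hg using Subgroup.closure_induction with
  | mem z hz =>
    intro k
    rcases hz with rfl | rfl
    · exact act_of (π := px) (mul_one _) sch_x hX hT hC k
    · exact act_of (π := py) (mul_one _) sch_y hX hT hC k
  | one =>
    intro k
    rw [rone]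
    rfl
  | mul a b _ _ iha ihb =>
    intro k
    rw [rmul, ihb, iha]
    rfl
  | inv a _ iha =>
    intro k
    have h1 := iha ((a⁻¹).1.1 k)
    have h2 : a.1.1 ((a⁻¹).1.1 k) = k := a.1.1.apply_symm_apply k
    rw [h2] at h1
    rw [← h1, rinv]

/-- the span of the `vec` is invariant -/
theorem span_inv (hX : ρ gX v0 = v0) (hT : ρ gt v0 = v0) (hC : ρ gc v0 = v0) (g : Γ) (v : V)
    (hv : v ∈ Submodule.span F (Set.range (vec ρ v0))) : ρ g v ∈ Submodule.span F (Set.range (vec ρ v0)) := by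
  induction hv using Submodule.span_induction with
  | mem x hx =>
    obtain ⟨k, rfl⟩ := hx
    rw [act hX hT hC]
    exact Submodule.subset_span ⟨_, rfl⟩
  | zero => rw [map_zero]; exact Submodule.zero_mem _
  | add x y _ _ hx hy => rw [map_add]; exact Submodule.add_mem _ hx hy
  | smul a x _ hx => rw [map_smul]; exact Submodule.smul_mem _ _ hx

/-- the span of the positive `vec` -/
theorem span_pos (hn : ρ neg = 1 ∨ ρ neg = -1) :
    Submodule.span F (Set.range (vec ρ v0)) = Submodule.span F (Set.range fun i => vec ρ v0 (pos i)) := by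
  apply le_antisymm
  · rw [Submodule.span_le]
    rintro _ ⟨k, rfl⟩
    rcases eq_pos_or k with hk | hk
    · rw [hk]; exact Submodule.subset_span ⟨_, rfl⟩
    · rw [hk, vec_ng]
      rcases hn with hn | hn
      · rw [hn]
        exact Submodule.subset_span ⟨_, rfl⟩
      · rw [hn]
        exact Submodule.neg_mem _ (Submodule.subset_span ⟨_, rfl⟩)
  · rw [Submodule.span_le]
    rintro _ ⟨k, rfl⟩
    exact Submodule.subset_span ⟨_, rfl⟩

theorem span_top (hI : Irr ρ) (hv0 : v0 ≠ 0) (hn : ρ neg = 1 ∨ ρ neg = -1) (hX : ρ gX v0 = v0) (hT : ρ gt v0 = v0)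
    (hC : ρ gc v0 = v0) : Submodule.span F (Set.range fun i => vec ρ v0 (pos i)) = ⊤ := by
  rw [← span_pos hn]
  rcases hI _ (span_inv hX hT hC) with h | h
  · exfalso
    apply hv0
    have h1 : v0 ∈ Submodule.span F (Set.range (vec ρ v0)) := Submodule.subset_span ⟨pos 0, vec_zero⟩
    rw [h] at h1
    exact h1
  · exact h

theorem linInd (hI : Irr ρ) (hd : finrank F V = 12) (hv0 : v0 ≠ 0) (hn : ρ neg = 1 ∨ ρ neg = -1) (hX : ρ gX v0 = v0)
    (hT : ρ gt v0 = v0) (hC : ρ gc v0 = v0) : LinearIndependent F (fun i => vec ρ v0 (pos i)) :=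
  linearIndependent_of_top_le_span_of_card_eq_finrank (span_top hI hv0 hn hX hT hC).ge (by rw [hd, Fintype.card_fin])

/-- scalars: `-1` acts as `1` or `-1` -/
theorem neg_cases (hI : Irr ρ) : ρ neg = 1 ∨ ρ neg = -1 := by
  have h1 : ∀ v, ρ neg (ρ neg v) = v := fun v => by rw [← rmul, neg_mul_neg', rone]
  let W : Submodule F V := es (ρ neg) 1
  rcases hI W (by
    intro g v hv
    rw [mem_es_one, req ρ (neg_comm g), mem_es_one.1 hv]) with h | h
  · right
    apply LinearMap.ext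
    intro v
    have h2 : v + ρ neg v ∈ W := by rw [mem_es_one, map_add, h1, add_comm]
    rw [h] at h2
    have h3 : v + ρ neg v = 0 := h2
    rw [add_comm] at h3
    exact eq_neg_of_add_eq_zero_left h3
  · left
    apply LinearMap.ext
    intro v
    have h2 : v ∈ W := by rw [h]; trivial
    exact mem_es_one.1 h2

theorem card_fib : ∀ i : Fin 12, (Finset.univ.filter (fun k : Fin 24 => idx k = i)).card = 2 := by
  decide +kernel

theorem not_pos (H : Odd12 ρ) (h3 : (3 : F) ≠ 0) (hI : Irr ρ) : ρ neg ≠ 1 := by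
  intro hn
  obtain ⟨v0, hv0, hX, hT, hC⟩ := H.exists_fix (Or.inl hn) h3
  have hli := linInd hI H.dim hv0 (Or.inl hn) hX hT hC
  have hng : ∀ k, vec ρ v0 (ng k) = vec ρ v0 k := by
    intro k
    rw [vec_ng, hn]
    rfl
  have hidx : ∀ k, vec ρ v0 k = vec ρ v0 (pos (idx k)) := by
    intro k
    rcases eq_pos_or k with hk | hk
    · rw [← hk]
    · nth_rewrite 1 [hk]
      rw [hng]
  set w : V := ∑ k, vec ρ v0 k with hw
  have hw0 : w ≠ 0 := by
    intro h0
    have h1 : ∑ k : Fin 24, vec ρ v0 k = ∑ i : Fin 12, (2 : F) • vec ρ v0 (pos i) := by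
      rw [← Finset.sum_fiberwise Finset.univ idx]
      apply Finset.sum_congr rfl
      intro i _
      have h2 : ∀ k ∈ Finset.univ.filter (fun k : Fin 24 => idx k = i), vec ρ v0 k = vec ρ v0 (pos i) := by
        intro k hk
        rw [hidx k, (Finset.mem_filter.1 hk).2]
      rw [Finset.sum_congr rfl h2, Finset.sum_const]
      have h3 : (Finset.univ.filter (fun k : Fin 24 => idx k = i)).card = 2 := card_fib i
      rw [h3, two_smul, two_smul]
    rw [hw, h1] at h0
    have h4 := Fintype.linearIndependent_iff.1 hli (fun _ => 2) h0 0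
    exact H.two h4
  have hinv : ∀ g, ρ g w = w := by
    intro g
    rw [hw, map_sum]
    simp only [act hX hT hC]
    exact Equiv.sum_comp g.1.1 (vec ρ v0)
  rcases hI (Submodule.span F {w}) (by
    intro g v hv
    obtain ⟨a, rfl⟩ := Submodule.mem_span_singleton.1 hv
    rw [map_smul, hinv]
    exact Submodule.mem_span_singleton.2 ⟨a, rfl⟩) with h | h
  · rw [Submodule.span_singleton_eq_bot] at h
    exact hw0 h
  · have h5 := finrank_span_singleton (K := F) hw0
    rw [h, finrank_top, H.dim] at h5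
    norm_num at h5

/-- **The representation is the one by signed permutations.** -/
theorem exists_basis (H : Odd12 ρ) (h3 : (3 : F) ≠ 0) (hI : Irr ρ) :
    ∃ b : Basis (Fin 12) F V, ∀ g i, ρ g (b i) = ((sgn (g.1.1 (pos i)) : ℤ) : F) • b (idx (g.1.1 (pos i))) := by
  have hn : ρ neg = -1 := (neg_cases hI).resolve_left (not_pos H h3 hI)
  obtain ⟨v0, hv0, hX, hT, hC⟩ := H.exists_fix (Or.inr hn) h3
  have hli := linInd hI H.dim hv0 (Or.inr hn) hX hT hC
  have hsp := span_top hI hv0 (Or.inr hn) hX hT hC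
  refine ⟨Basis.mk hli hsp.ge, ?_⟩
  intro g i
  rw [Basis.mk_apply, Basis.mk_apply, act hX hT hC]
  generalize g.1.1 (pos i) = k
  rcases eq_pos_or k with hk | hk
  · rw [← hk]
    have : sgn k = 1 := by rw [hk, sgn_pos]
    rw [this, Int.cast_one, one_smul]
  · have : sgn k = -1 := by rw [hk, sgn_ng, sgn_pos]
    rw [this, Int.cast_neg, Int.cast_one, neg_one_smul]
    nth_rewrite 1 [hk]
    rw [vec_ng, hn]
    rfl

end act

end Cfsg.Agent.H932.Mt
end

-- part: H932/MtMod
section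
/-!
# Cores with socle `M₁₂` in dimension 12, given the cover (helper932)

`P ≤ GL₁₂(F)` a core, `e : Soc P ≃* M₁₂`, `φ : Γ → P` onto, over `e`.

* `exists_model` : characteristic not 2, 3: there is a basis permuted up to sign by `Γ`;
* `tr_model`, `fr`, `sd` : then `Fr P p` and `SD P`.
-/

set_option autoImplicit false
set_option linter.unusedSectionVars false

namespace Cfsg.Agent.H932.Mt

open Cfsg Cfsg.Geo Matrix Cfsg.Agent.H915.LD

universe u

variable {F : Type u} [Field F] {P : Subgroup (GL (Fin 12) F)}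

/-- the representation -/
def rp (φ : Γ →* P) : Γ →* Module.End F (Fin 12 → F) where
  toFun g := Matrix.toLin' ((φ g : GL (Fin 12) F) : Matrix (Fin 12) (Fin 12) F)
  map_one' := by
    rw [map_one, Subgroup.coe_one, Units.val_one, Matrix.toLin'_one]
    rfl
  map_mul' a b := by
    rw [map_mul, Subgroup.coe_mul, Units.val_mul, Matrix.toLin'_mul]
    rfl

theorem rp_apply (φ : Γ →* P) (g : Γ) (v : Fin 12 → F) :
    rp φ g v = ((φ g : GL (Fin 12) F) : Matrix (Fin 12) (Fin 12) F) *ᵥ v := rfl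

theorem irr_rp (hC : Core P) {φ : Γ →* P} (hφ : Function.Surjective φ) : Irr (rp φ) := by
  intro W hW
  apply hC.absIrred.1
  rintro s ⟨g, hg, rfl⟩
  obtain ⟨x, hx⟩ := hφ ⟨g, hg⟩
  rintro _ ⟨v, hv, rfl⟩
  have h1 := hW x v hv
  rw [rp_apply, hx] at h1
  exact h1

theorem odd12_rp (h2 : (2 : F) ≠ 0) (e : Soc P ≃* Spor.M12) {φ : Γ →* P} (hφe : ∀ x, e (toSoc P (φ x)) = sig x) :
    Odd12 (rp φ) where
  two := h2
  dim := by rw [Module.finrank_fin_fun]
  ns := by
    intro g hg c hc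
    apply hg
    rw [← hφe, map_eq_one_iff e e.injective]
    have h1 : φ g ∈ (toSoc P).ker := by
      rw [ker_toSoc, Subgroup.mem_subgroupOf, mem_scalars_iff]
      have h3 : ((φ g : GL (Fin 12) F) : Matrix (Fin 12) (Fin 12) F) = c • (1 : Matrix (Fin 12) (Fin 12) F) := by
        apply Matrix.toLin'.injective
        rw [map_smul, Matrix.toLin'_one]
        exact hc
      have hc0 : c ≠ 0 := by
        intro h0
        rw [h0, zero_smul] at h3
        exact (φ g : GL (Fin 12) F).ne_zero h3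
      exact ⟨Units.mk0 c hc0, h3⟩
    exact h1

/-- the basis of the model -/
def IsModel (φ : Γ →* P) (b : Module.Basis (Fin 12) F (Fin 12 → F)) : Prop :=
  ∀ g i, ((φ g : GL (Fin 12) F) : Matrix (Fin 12) (Fin 12) F) *ᵥ (b i)
    = ((sgn (g.1.1 (pos i)) : ℤ) : F) • b (idx (g.1.1 (pos i)))

/-- **The model.** -/
theorem exists_model (h2 : (2 : F) ≠ 0) (h3 : (3 : F) ≠ 0) (hC : Core P) (e : Soc P ≃* Spor.M12) {φ : Γ →* P}
    (hφ : Function.Surjective φ) (hφe : ∀ x, e (toSoc P (φ x)) = sig x) :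
    ∃ b : Module.Basis (Fin 12) F (Fin 12 → F), IsModel φ b :=
  exists_basis (odd12_rp h2 e hφe) h3 (irr_rp hC hφ)

/-- the trace of a signed permutation -/
def chi (s : Equiv.Perm (Fin 24)) : ℤ := ∑ i, if idx (s (pos i)) = i then sgn (s (pos i)) else 0

theorem tr_model {φ : Γ →* P} {b : Module.Basis (Fin 12) F (Fin 12 → F)} (hb : IsModel φ b) (g : Γ) :
    tr (φ g : GL (Fin 12) F) = (chi g.1.1 : F) := by
  have h1 : tr (φ g : GL (Fin 12) F) = LinearMap.trace F (Fin 12 → F) (rp φ g) := by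
    unfold tr
    rw [← Matrix.trace_toLin'_eq]
    rfl
  rw [h1, LinearMap.trace_eq_matrix_trace F b, Matrix.trace, chi, Int.cast_sum]
  apply Finset.sum_congr rfl
  intro i _
  rw [Matrix.diag_apply, LinearMap.toMatrix_apply]
  have h2 : rp φ g (b i) = ((sgn (g.1.1 (pos i)) : ℤ) : F) • b (idx (g.1.1 (pos i))) := hb g i
  rw [h2, map_smul, Module.Basis.repr_self, Finsupp.smul_apply, Finsupp.single_apply, smul_eq_mul]
  split_ifs
  · rw [mul_one]
  · rw [mul_zero, Int.cast_zero]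

theorem chi_inv (g : Γ) : chi (g⁻¹).1.1 = chi g.1.1 := by
  unfold chi
  apply Finset.sum_congr rfl
  intro i _
  have h1 : ∀ k, g.1.1 ((g⁻¹).1.1 k) = k := fun k => g.1.1.apply_symm_apply k
  have h2 : ∀ k, (g⁻¹).1.1 (g.1.1 k) = k := fun k => g.1.1.symm_apply_apply k
  have key : ∀ a b : Γ, (∀ k, a.1.1 (b.1.1 k) = k) → idx (b.1.1 (pos i)) = i →
      idx (a.1.1 (pos i)) = i ∧ sgn (a.1.1 (pos i)) = sgn (b.1.1 (pos i)) := by
    intro a b hab hi
    rcases eq_pos_or (b.1.1 (pos i)) with h | h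
    · have h3 : a.1.1 (pos i) = pos i := by
        rw [hi] at h
        nth_rewrite 1 [← h]
        exact hab _
      rw [h3, idx_pos, sgn_pos, h, sgn_pos]
      exact ⟨rfl, rfl⟩
    · have h3 : a.1.1 (pos i) = ng (pos i) := by
        rw [hi] at h
        have h4 := hab (pos i)
        rw [h, ng_comm] at h4
        rw [← h4, ng_ng, h4]
      rw [h3, idx_ng, idx_pos, sgn_ng, sgn_pos, h, sgn_ng, sgn_pos]
      exact ⟨rfl, rfl⟩
  by_cases hi : idx (g.1.1 (pos i)) = i
  · obtain ⟨h3, h4⟩ := key g⁻¹ g h2 hi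
    rw [if_pos h3, if_pos hi, h4]
  · rw [if_neg hi, if_neg]
    intro h3
    exact hi (key g g⁻¹ h1 h3).1

/-- **Self-dual.** -/
theorem sd_of {φ : Γ →* P} (hφ : Function.Surjective φ) {b : Module.Basis (Fin 12) F (Fin 12 → F)} (hb : IsModel φ b) :
    SD P := by
  intro g hg
  obtain ⟨x, hx⟩ := hφ ⟨g, hg⟩
  have h4 : g = (φ x : GL (Fin 12) F) := by rw [hx]
  have h5 : g⁻¹ = (φ x⁻¹ : GL (Fin 12) F) := by rw [map_inv, hx]; rfl
  rw [h5, h4, tr_model hb, tr_model hb, chi_inv]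

/-- **Realised over the prime field.** -/
theorem fr_of {φ : Γ →* P} (hφ : Function.Surjective φ) {b : Module.Basis (Fin 12) F (Fin 12 → F)} (hb : IsModel φ b)
    (p : ℕ) [hp : Fact p.Prime] [CharP F p] : Fr P p := by
  intro g hg
  obtain ⟨x, hx⟩ := hφ ⟨g, hg⟩
  have h4 : g = (φ x : GL (Fin 12) F) := by rw [hx]
  rw [h4, tr_model hb]
  have h5 : frobenius F p ((chi x.1.1 : ℤ) : F) = ((chi x.1.1 : ℤ) : F) := map_intCast _ _
  rwa [frobenius_def] at h5

end Cfsg.Agent.H932.Mt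
end

private theorem dce_69373c8cd3bb : _root_.True := by
  try have : _root_.True := by simp only [_root_.Cfsg.Agent.H932.Mt.chi.eq_1]
  exact _root_.True.intro
end

-- part: H932/MtCov
section
set_option linter.all false
open scoped Cfsg.Agent.FastGrp

/-!
# The cover of a core with socle `M₁₂` (helper932)

`P ≤ GL(ι, F)` a core, `e : Soc P ≃* M₁₂`.

* `exists_cover` : `Γ = 2.M₁₂ → P` onto, over `e`;
* `fr`, `sd` : dimension 12, characteristic not 2, 3: `Fr P p` and `SD P`.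
-/

set_option autoImplicit false
set_option linter.unusedSectionVars false

namespace Cfsg.Agent.H932.Mt

open Cfsg Cfsg.Geo Matrix Cfsg.Agent.H915.LD

universe u

open scoped commutatorElement

theorem stem_sig : Cfsg.IsStemExtension sig := by
  refine ⟨sig_surjective, ?_, ?_⟩
  · intro z hz
    rcases eq_of_sig hz with h | h
    · rw [h]; exact Subgroup.one_mem _
    · rw [h, Subgroup.mem_center_iff]
      intro g
      exact (neg_comm g).symm
  · intro z hz
    rcases eq_of_sig hz with h | h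
    · rw [h]; exact Subgroup.one_mem _
    · have h1 : neg = ⁅hi, gi⁆ := by
        rw [commutatorElement_def, hi_rel]
        group
      rw [h, h1]
      exact Subgroup.commutator_mem_commutator (Subgroup.mem_top _) (Subgroup.mem_top _)

theorem card_ker_sig : Nat.card sig.ker = 2 := by
  have h1 : (sig.ker : Set Γ) = {1, neg} := by
    ext z
    constructor
    · intro hz
      exact eq_of_sig hz
    · rintro (h | h)
      · rw [h]; exact Subgroup.one_mem _
      · have hz : z = neg := h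
        rw [hz]
        exact sig_neg
  have h2 : Nat.card sig.ker = Set.ncard (sig.ker : Set Γ) := rfl
  rw [h2, h1, Set.ncard_pair neg_ne_one.symm]

instance finiteMtGam : Finite Γ := inferInstanceAs (Finite ↥Gam)

/-- **The cover.** -/
theorem exists_cover {ι : Type} [Fintype ι] [DecidableEq ι] {F : Type u} [Field F] [Finite F]
    {P : Subgroup (GL ι F)} (hC : Core P) (e : Soc P ≃* Spor.M12) :
    ∃ φ : Γ →* P, Function.Surjective φ ∧ ∀ x, e (toSoc P (φ x)) = sig x := by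
  have hker := ker_comp e
  have hfin : Finite Spor.M12 := inferInstance
  exact H95.StemCover.exists_cover' S2035.perfect S2035.result sig stem_sig
    (by rw [card_ker_sig]; exact (Nat.card_zmod 2).symm) hC.commutator_top (e.toMonoidHom.comp (toSoc P))
    (e.surjective.comp (toSoc_surjective P)) (by rw [hker]; exact scalars_le_center)

variable {F : Type u} [Field F] {P : Subgroup (GL (Fin 12) F)}

/-- **Self-dual.** -/
theorem sd [Finite F] (h2 : (2 : F) ≠ 0) (h3 : (3 : F) ≠ 0) (hC : Core P) (e : Soc P ≃* Spor.M12) : SD P := by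
  obtain ⟨φ, hφ, hφe⟩ := exists_cover hC e
  obtain ⟨b, hb⟩ := exists_model h2 h3 hC e hφ hφe
  exact sd_of hφ hb

/-- **Realised over the prime field.** -/
theorem fr [Finite F] (h2 : (2 : F) ≠ 0) (h3 : (3 : F) ≠ 0) (hC : Core P) (e : Soc P ≃* Spor.M12) (p : ℕ)
    [hp : Fact p.Prime] [CharP F p] : Fr P p := by
  obtain ⟨φ, hφ, hφe⟩ := exists_cover hC e
  obtain ⟨b, hb⟩ := exists_model h2 h3 hC e hφ hφe
  exact fr_of hφ hb p

end Cfsg.Agent.H932.Mt
end

-- part: H932/MtOut
section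
prune_inst 0x606062000008180582130002400400009200430000d0200140084b5440200486010a000a10809008d00000000001100100022800000a000800000000000002000000000000200000800080000000000000000000000000000000041000000000000
set_option linter.all false
open scoped Cfsg.Agent.FastGrp

/-!
# The outer automorphism of `2.M₁₂` in the monomial model (helper932)

`A0 b` : the matrix which is the Hadamard matrix with respect to the basis `b`.

* `A0_mul_self` : `A0 * A0 = 12`;
* `A0_comm` : `A0 φ(g) = φ(g') A0` if `inter g g'`;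
* `exists_inter` : for every `g` there is `g'` with `inter g g'`;
* `not_conj` : `g ↦ g'` is not conjugation modulo `-1`;
* `orth_cover` : for `i ≠ j` some element of `Γ` maps `(i, j)` to `(i, -j)`, `(-i, j)`, `(j, -i)` or `(-j, i)`.
-/

set_option autoImplicit false
set_option linter.unusedSectionVars false

namespace Cfsg.Agent.H932.Mt

open Cfsg Cfsg.Geo Matrix Cfsg.Agent.H915.LD

universe u

/-- the Hadamard matrix on signed points -/
def Hh (k l : Fin 24) : ℤ := sgn k * sgn l * Hm (idx k) (idx l)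

/-- `g'` corresponds to `g` under the outer automorphism -/
def inter (g g' : Γ) : Prop := ∀ k l, Hh (g.1.1 k) (g'.1.1 l) = Hh k l

instance decidableInter (g g' : Γ) : Decidable (inter g g') := by unfold inter; infer_instance

/-- the partner of `X` -/
def oX : Γ := el [2, 2, 1, 0, 0, 0, 0, 1, 2, 1, 2, 2, 2, 2, 1, 0, 0]
/-- the partner of `Y` -/
def oY : Γ := el [1, 2, 1, 2, 1, 0, 1, 0, 0, 0, 1, 2, 1, 2, 2, 2, 1, 0, 0]
/-- an element with fixed lines -/
def g4 : Γ := el [0, 0, 1, 2, 2, 1, 2, 1, 0, 1, 0]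
/-- its partner, without fixed lines -/
def o4 : Γ := el [0, 0, 1, 2, 1, 2, 1, 2, 2, 2, 1, 0, 0]

theorem inter_oX : inter (el [0]) oX := by
  unfold inter
  decide +kernel

theorem inter_oY : inter (el [1]) oY := by
  unfold inter
  decide +kernel

theorem inter_o4 : inter g4 o4 := by
  unfold inter
  decide +kernel

theorem fix_g4 : ∃ i, idx (g4.1.1 (pos i)) = i := by decide +kernel

theorem fix_o4 : ∀ k, idx (o4.1.1 k) ≠ idx k := by decide +kernel

theorem exists_inter (g : Γ) : ∃ g', inter g g' := by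
  have hg : g ∈ Subgroup.closure ({el [0], el [1]} : Set Γ) := by rw [closure_gens]; trivial
  induction hg using Subgroup.closure_induction with
  | mem z hz =>
    rcases hz with rfl | rfl
    · exact ⟨oX, inter_oX⟩
    · exact ⟨oY, inter_oY⟩
  | one => exact ⟨1, fun _ _ => rfl⟩
  | mul a b _ _ iha ihb =>
    obtain ⟨a', ha⟩ := iha
    obtain ⟨b', hb⟩ := ihb
    exact ⟨a' * b', fun k l => (ha _ _).trans (hb _ _)⟩
  | inv a _ iha =>
    obtain ⟨a', ha⟩ := iha
    refine ⟨a'⁻¹, fun k l => ?_⟩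
    have h1 := ha ((a⁻¹).1.1 k) ((a'⁻¹).1.1 l)
    have h2 : a.1.1 ((a⁻¹).1.1 k) = k := a.1.1.apply_symm_apply k
    have h3 : a'.1.1 ((a'⁻¹).1.1 l) = l := a'.1.1.apply_symm_apply l
    rw [h2, h3] at h1
    exact h1.symm

theorem idx_apply_ng (g : Γ) (k : Fin 24) : idx (g.1.1 (ng k)) = idx (g.1.1 k) := by rw [ng_comm, idx_ng]

theorem idx_congr (g : Γ) {k l : Fin 24} (h : idx k = idx l) : idx (g.1.1 k) = idx (g.1.1 l) := by
  rcases eq_pos_or k with hk | hk <;> rcases eq_pos_or l with hl | hl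
  · rw [hk, hl, h]
  · rw [hk, hl, h, idx_apply_ng]
  · rw [hk, hl, h, idx_apply_ng]
  · rw [hk, hl, h]

/-- the outer automorphism is not inner -/
theorem not_conj (y : Γ) (h : sig (y * g4 * y⁻¹) = sig o4) : False := by
  obtain ⟨i, hi⟩ := fix_g4
  -- the fixed line
  set k := y.1.1 (pos i) with hk
  have h1 : (y⁻¹).1.1 k = pos i := y.1.1.symm_apply_apply (pos i)
  have h2 : (y * g4 * y⁻¹).1.1 k = y.1.1 (g4.1.1 ((y⁻¹).1.1 k)) := rfl
  have h3 : idx ((y * g4 * y⁻¹).1.1 k) = idx k := by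
    rw [h2, h1, hk]
    apply idx_congr
    rw [hi, idx_pos]
  have h4 : sig ((y * g4 * y⁻¹)⁻¹ * o4) = 1 := by rw [map_mul, map_inv, h, inv_mul_cancel]
  rcases eq_of_sig h4 with h5 | h5
  · rw [inv_mul_eq_one] at h5
    rw [h5] at h3
    exact fix_o4 k h3
  · rw [inv_mul_eq_iff_eq_mul] at h5
    apply fix_o4 (ng k)
    have h6 : o4.1.1 (ng k) = (y * g4 * y⁻¹).1.1 (neg.1.1 (ng k)) := by rw [h5]; rfl
    rw [h6, neg_apply, ng_ng, h3, idx_ng]

/-- words for `orth_cover` -/
def orthw : List (List ℕ) :=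
  [[1, 0, 1, 0, 1, 0, 1, 0, 1, 0], [0, 0, 1, 0, 1, 0, 1, 0, 1, 0, 1, 2], [0, 1, 0, 1, 0, 1, 0, 1, 0, 1],
   [1, 0, 0, 0, 1, 0, 0, 1, 0, 1, 0], [0, 0, 0, 1, 2, 2, 1, 2, 1, 0, 1], [0, 0, 1, 0, 1, 0, 1, 2, 2, 1, 0, 0],
   [0, 0, 0, 1, 0, 1, 0, 1, 2, 2, 1, 0], [0, 1, 0, 1, 2, 2, 1, 0, 0, 0, 0, 1], [2, 1, 0, 1, 0, 1, 0, 1, 0, 1, 0, 0],
   [0, 1, 2, 2, 1, 0, 0, 0, 0, 1, 0, 1], [0, 0, 0, 0, 1, 0, 1, 0, 1, 2, 2, 1], [1, 2, 1, 2, 2, 1, 0, 0],
   [0, 1, 2, 1, 2, 2, 1, 0], [0, 0, 1, 0, 1, 2, 2, 1], [0, 0, 1, 2, 1, 2, 2, 1], [1, 2, 2, 1, 2, 1, 2, 1, 0, 0],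
   [0, 1, 2, 1, 2, 2, 1, 2, 2, 1], [0, 0, 1, 0, 1, 0, 0, 1, 0, 0, 0], [2, 1, 2, 1, 0, 0, 1, 0, 0, 1, 0, 0],
   [1, 0, 1, 2, 2, 2, 2, 1, 0, 1, 0, 1], [0, 1, 2, 2, 1, 0, 1, 0, 1, 0], [0, 1, 0, 1, 0, 0, 0, 1, 2, 1],
   [0, 0, 0, 1, 2, 2, 2, 1, 2, 2]]

/-- the words for a pair -/
def orthp (w : List ℕ) (k l : Fin 24) : Bool :=
  let g := (el w).1.1
  (decide (g k = k) && decide (g l = ng l)) || (decide (g k = ng k) && decide (g l = l)) ||
    (decide (g k = l) && decide (g l = ng k)) || (decide (g k = ng l) && decide (g l = k))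

theorem orth_all : ∀ i j : Fin 12, i ≠ j → orthw.any (fun w => orthp w (pos i) (pos j)) = true := by decide +kernel

theorem orth_cover {i j : Fin 12} (h : i ≠ j) : ∃ g : Γ, (g.1.1 (pos i) = pos i ∧ g.1.1 (pos j) = ng (pos j)) ∨
    (g.1.1 (pos i) = ng (pos i) ∧ g.1.1 (pos j) = pos j) ∨ (g.1.1 (pos i) = pos j ∧ g.1.1 (pos j) = ng (pos i)) ∨
    (g.1.1 (pos i) = ng (pos j) ∧ g.1.1 (pos j) = pos i) := by
  have h1 := orth_all i j h
  rw [List.any_eq_true] at h1
  obtain ⟨w, -, hw⟩ := h1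
  refine ⟨el w, ?_⟩
  unfold orthp at hw
  simp only [Bool.or_eq_true, Bool.and_eq_true, decide_eq_true_eq] at hw
  tauto

section model

variable {F : Type u} [Field F] {P : Subgroup (GL (Fin 12) F)}

/-- matrices are determined by the images of a basis -/
theorem mat_ext (b : Module.Basis (Fin 12) F (Fin 12 → F)) {M N : Matrix (Fin 12) (Fin 12) F}
    (h : ∀ i, M *ᵥ b i = N *ᵥ b i) : M = N := by
  apply Matrix.toLin'.injective
  apply b.ext
  exact h

/-- the signed basis vectors -/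
noncomputable def bs (b : Module.Basis (Fin 12) F (Fin 12 → F)) (k : Fin 24) : Fin 12 → F := ((sgn k : ℤ) : F) • b (idx k)

variable {b : Module.Basis (Fin 12) F (Fin 12 → F)}

theorem bs_pos (i : Fin 12) : bs b (pos i) = b i := by
  unfold bs
  rw [sgn_pos, idx_pos, Int.cast_one, one_smul]

theorem bs_ng (k : Fin 24) : bs b (ng k) = -bs b k := by
  unfold bs
  rw [sgn_ng, idx_ng, Int.cast_neg, neg_smul]

theorem model_bs {φ : Γ →* P} (hb : IsModel φ b) (g : Γ) (k : Fin 24) :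
    ((φ g : GL (Fin 12) F) : Matrix (Fin 12) (Fin 12) F) *ᵥ bs b k = bs b (g.1.1 k) := by
  rcases eq_pos_or k with hk | hk
  · rw [hk, bs_pos, hb]; rfl
  · rw [hk, bs_ng, Matrix.mulVec_neg, bs_pos, hb, ng_comm, bs_ng]; rfl

/-- the Hadamard matrix with respect to `b` -/
noncomputable def A0 (b : Module.Basis (Fin 12) F (Fin 12 → F)) : Matrix (Fin 12) (Fin 12) F :=
  LinearMap.toMatrix' (b.constr F (fun i => ∑ k, ((Hm k i : ℤ) : F) • b k))

theorem A0_b (i : Fin 12) : A0 b *ᵥ b i = ∑ k, ((Hm k i : ℤ) : F) • b k := by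
  unfold A0
  rw [← Matrix.toLin'_apply, Matrix.toLin'_toMatrix', Module.Basis.constr_basis]

theorem A0_mul_self : A0 b * A0 b = (12 : F) • (1 : Matrix (Fin 12) (Fin 12) F) := by
  apply mat_ext b
  intro i
  rw [← Matrix.mulVec_mulVec, A0_b, Matrix.mulVec_sum]
  simp only [Matrix.mulVec_smul, A0_b, Finset.smul_sum, smul_smul]
  rw [Finset.sum_comm]
  simp only [← Finset.sum_smul]
  have h1 : ∀ l : Fin 12, (∑ k, ((Hm k i : ℤ) : F) * ((Hm l k : ℤ) : F)) = if l = i then 12 else 0 := by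
    intro l
    have h2 : (∑ k, ((Hm k i : ℤ) : F) * ((Hm l k : ℤ) : F)) = ((∑ k, Hm l k * Hm k i : ℤ) : F) := by
      rw [Int.cast_sum]
      apply Finset.sum_congr rfl
      intro k _
      rw [Int.cast_mul, mul_comm]
    rw [h2, Hm_orth]
    split_ifs <;> norm_num
  simp only [h1, ite_smul, zero_smul, Finset.sum_ite_eq', Finset.mem_univ, if_true]
  rw [Matrix.smul_mulVec, Matrix.one_mulVec]

theorem sum_signed (f : Fin 24 → Fin 12 → F) (hf : ∀ k, f k = f (pos (idx k))) :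
    ∑ k, f k = ∑ i : Fin 12, (2 : F) • f (pos i) := by
  rw [← Finset.sum_fiberwise Finset.univ idx]
  apply Finset.sum_congr rfl
  intro i _
  have h2 : ∀ k ∈ Finset.univ.filter (fun k : Fin 24 => idx k = i), f k = f (pos i) := by
    intro k hk
    rw [hf k, (Finset.mem_filter.1 hk).2]
  rw [Finset.sum_congr rfl h2, Finset.sum_const, card_fib i, two_smul, two_smul]

theorem A0_bs (k : Fin 24) : (2 : F) • (A0 b *ᵥ bs b k) = ∑ l, ((Hh k l : ℤ) : F) • bs b l := by
  rw [sum_signed]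
  · unfold bs
    rw [Matrix.mulVec_smul, A0_b, Finset.smul_sum, Finset.smul_sum]
    apply Finset.sum_congr rfl
    intro i _
    unfold Hh
    rw [sgn_pos, idx_pos, Hm_symm i (idx k), Int.cast_one, one_smul, mul_one, smul_smul, smul_smul, smul_smul,
      Int.cast_mul, mul_assoc]
  · intro l
    unfold bs Hh
    rw [sgn_pos, idx_pos, Int.cast_one, one_smul, mul_one, smul_smul]
    congr 1
    rw [← Int.cast_mul]
    congr 1
    rcases sgn_cases l with h | h <;> rw [h] <;> ring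

theorem A0_comm (h2 : (2 : F) ≠ 0) {φ : Γ →* P} (hb : IsModel φ b) {g g' : Γ} (h : inter g g') :
    A0 b * ((φ g : GL (Fin 12) F) : Matrix (Fin 12) (Fin 12) F)
      = ((φ g' : GL (Fin 12) F) : Matrix (Fin 12) (Fin 12) F) * A0 b := by
  apply mat_ext b
  intro i
  rw [← bs_pos i, ← Matrix.mulVec_mulVec, ← Matrix.mulVec_mulVec, model_bs hb]
  apply smul_right_injective _ h2
  change (2 : F) • _ = (2 : F) • _
  rw [A0_bs, ← Matrix.mulVec_smul, A0_bs, Matrix.mulVec_sum]
  simp only [Matrix.mulVec_smul, model_bs hb]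
  rw [← Equiv.sum_comp g'.1.1]
  apply Finset.sum_congr rfl
  intro l _
  rw [h]

end model

end Cfsg.Agent.H932.Mt
end
end
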