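import Cfsg.Agent.H932.TypeClass
import Cfsg.Agent.H925.OrthRed
import Cfsg.Agent.H922.OddPerp
set_option linter.all false

/-!
Types of nondegenerate subspaces of an even-dimensional quadratic space over a finite field (H932), in the vocabulary
of `Cfsg.Geo`, any characteristic.

* `areIsometricFor_of_type`: nondegenerate even-dimensional subspaces of the same dimension and type are isometric;
* `plus_perp`: `V`, `W` of plus type: `W^⊥` is of plus type;
* `plus_of_same_type`: `2 dim W = dim V`, `W` and `W^⊥` of the same type: `V` is of plus type;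
* `isOrthogonalMDecomposition_half`: `V` of plus type, `2 dim W = dim V`: `{W, W^⊥}` is an orthogonal decomposition;
* `plus_of_even_parts`: an orthogonal decomposition into `2 s` isometric subspaces of dimension `m`, `s m` even: plus type.
-/

set_option autoImplicit false
set_option linter.unusedSectionVars false

namespace Cfsg.Agent.H932

open Cfsg Cfsg.Geo Module
open QuadraticMap hiding proj
open Cfsg.Agent.LieClassical.OrthCore Cfsg.Agent.LieClassical.OrthTrans Cfsg.Agent.LieClassical.OrthFinite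
open Cfsg.Agent.H925 Cfsg.Agent.H922
open scoped Matrix

variable {ι : Type} [Fintype ι] [DecidableEq ι] {F : Type*} [Field F] {Q : (ι → F) → F}

theorem nondeg_sub (hQ : IsNondegenerateQuadraticForm Q) {W : Submodule F (ι → F)}
    (hW : IsNondegenerateOn (polar Q) W) : Nondeg ((qf hQ).comp W.subtype) := by
  intro x hx
  by_contra h0
  obtain ⟨-, y, hy, hxy⟩ := hW x.1 x.2 (fun h => h0 (Subtype.ext h))
  exact hxy (hx ⟨y, hy⟩)

theorem pl_sub_iff (hQ : IsNondegenerateQuadraticForm Q) (W : Submodule F (ι → F)) :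
    Pl ((qf hQ).comp W.subtype) ↔ IsPlusTypeOn Q W := by
  constructor
  · rintro ⟨U, hU, hd⟩
    refine ⟨U.map W.subtype, Submodule.map_subtype_le _ _, ?_, ?_⟩
    · rintro _ ⟨u, hu, rfl⟩
      exact hU u hu
    · rw [finrank_map_subtype]; exact hd
  · rintro ⟨U, hUW, hU, hd⟩
    refine ⟨U.comap W.subtype, fun u hu => hU _ hu, ?_⟩
    have e1 : (U.comap W.subtype).map W.subtype = U := by
      rw [Submodule.map_comap_subtype]
      exact inf_eq_right.2 hUW
    rw [← finrank_map_subtype W, e1]
    exact hd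

/-- **Subspaces of the same even dimension and type are isometric.** -/
theorem areIsometricFor_of_type [Finite F] (hQ : IsNondegenerateQuadraticForm Q) {W W' : Submodule F (ι → F)}
    (hW : IsNondegenerateOn (polar Q) W) (hW' : IsNondegenerateOn (polar Q) W') (he : Even (finrank F W))
    (hd : finrank F W = finrank F W') (h : IsPlusTypeOn Q W ↔ IsPlusTypeOn Q W') : AreIsometricFor Q W W' := by
  obtain ⟨e, he'⟩ := exists_isometry (nondeg_sub hQ hW) (nondeg_sub hQ hW') he hd
    ((pl_sub_iff hQ W).trans (h.trans (pl_sub_iff hQ W').symm))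
  exact ⟨e, he'⟩

theorem isPlusTypeOn_of_isometric {W W' : Submodule F (ι → F)} (h : AreIsometricFor Q W W')
    (hW : IsPlusTypeOn Q W) : IsPlusTypeOn Q W' := by
  obtain ⟨e, he⟩ := h
  obtain ⟨U, hUW, hU, hd⟩ := hW
  let U' : Submodule F W := U.comap W.subtype
  have e1 : U'.map W.subtype = U := by
    rw [Submodule.map_comap_subtype]
    exact inf_eq_right.2 hUW
  refine ⟨(U'.map (e : W →ₗ[F] W')).map W'.subtype, Submodule.map_subtype_le _ _, ?_, ?_⟩
  · rintro _ ⟨_, ⟨u, hu, rfl⟩, rfl⟩
    change Q (e u : ι → F) = 0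
    rw [he]
    exact hU _ hu
  · rw [finrank_map_subtype]
    have e2 : finrank F (U'.map (e : W →ₗ[F] W')) = finrank F U' := LinearEquiv.finrank_map_eq e U'
    rw [e2, ← finrank_map_subtype W, e1, hd]
    exact e.finrank_eq

theorem areIsometricFor_symm {W W' : Submodule F (ι → F)} (h : AreIsometricFor Q W W') : AreIsometricFor Q W' W := by
  obtain ⟨e, he⟩ := h
  refine ⟨e.symm, fun w => ?_⟩
  have := he (e.symm w)
  rw [LinearEquiv.apply_symm_apply] at this
  exact this.symm

theorem polar_isoSub {W W' : Submodule F (ι → F)} (e : W ≃ₗ[F] W')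
    (he : ∀ w : W, Q ((e w : W') : ι → F) = Q (w : ι → F)) (a b : W) :
    polar Q (e a : ι → F) (e b : ι → F) = polar Q (a : ι → F) (b : ι → F) := by
  have h := he (a + b)
  rw [map_add, Submodule.coe_add, Submodule.coe_add] at h
  simp only [polar, h, he]

theorem isNondegenerateOn_of_isometric {W W' : Submodule F (ι → F)} (h : AreIsometricFor Q W W')
    (hW : IsNondegenerateOn (polar Q) W) : IsNondegenerateOn (polar Q) W' := by
  obtain ⟨e, he⟩ := h
  intro w hw hw0
  obtain ⟨x, hx⟩ := e.surjective ⟨w, hw⟩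
  have hx0 : (x : ι → F) ≠ 0 := by
    intro h0
    have : x = 0 := Subtype.ext h0
    rw [this, map_zero] at hx
    exact hw0 (congrArg Subtype.val hx).symm
  obtain ⟨⟨y, hy, hyx⟩, -⟩ := hW x.1 x.2 hx0
  have h1 := polar_isoSub e he ⟨y, hy⟩ x
  rw [hx] at h1
  have h2 : polar Q (e ⟨y, hy⟩ : ι → F) w ≠ 0 := by
    rw [h1]; exact hyx
  exact ⟨⟨_, (e ⟨y, hy⟩).2, h2⟩, ⟨_, (e ⟨y, hy⟩).2, by rwa [polar_comm]⟩⟩

/-! ### Splitting `V = W ⊥ W^⊥` -/

theorem inf_perp (hQ : IsNondegenerateQuadraticForm Q) {W : Submodule F (ι → F)}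
    (hW : IsNondegenerateOn (polar Q) W) : W ⊓ perp hQ.polar_bilinear W = ⊥ := by
  rw [eq_bot_iff]
  rintro x ⟨hx, hx'⟩
  rw [Submodule.mem_bot]
  by_contra h0
  obtain ⟨⟨y, hy, hy'⟩, _⟩ := hW x hx h0
  exact hy' (hx' y hy)

theorem sup_perp (hQ : IsNondegenerateQuadraticForm Q) {W : Submodule F (ι → F)}
    (hW : IsNondegenerateOn (polar Q) W) : W ⊔ perp hQ.polar_bilinear W = ⊤ := by
  apply Submodule.eq_top_of_finrank_eq
  have h1 := Submodule.finrank_sup_add_finrank_inf_eq W (perp hQ.polar_bilinear W)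
  rw [inf_perp hQ hW, finrank_bot, finrank_perp hQ.polar_bilinear hQ.nondegenerate] at h1
  rw [Module.finrank_fintype_fun_eq_card]
  omega

/-- In plus type every totally singular subspace lies in one of half dimension. -/
theorem exists_maximal_above [Finite F] (hQ : IsNondegenerateQuadraticForm Q) (hplus : IsPlusTypeOn Q ⊤)
    {U : Submodule F (ι → F)} (hU : IsTotallySingularQuad Q U) :
    ∃ U' : Submodule F (ι → F), U ≤ U' ∧ IsTotallySingularQuad Q U' ∧ 2 * finrank F U' = Fintype.card ι := by
  obtain ⟨U₀, hU₀, hd₀⟩ := exists_half hplus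
  have key : ∀ k : ℕ, ∀ U : Submodule F (ι → F), IsTotallySingularQuad Q U → finrank F U + k = finrank F U₀ →
      ∃ U' : Submodule F (ι → F), U ≤ U' ∧ IsTotallySingularQuad Q U' ∧ 2 * finrank F U' = Fintype.card ι := by
    intro k
    induction k with
    | zero =>
      intro U hU hk
      exact ⟨U, le_rfl, hU, by omega⟩
    | succ k ih =>
      intro U hU hk
      obtain ⟨z, hzU, hzW, hz⟩ := Cfsg.Agent.H884.SingMaxPlus.exists_extend (nondeg_qf hQ) (W := U) (U := U₀) hU₀ (by omega)
      have h1 := Cfsg.Agent.H884.SingMaxPlus.sup_span_singular (Q := qf hQ) hU (hU₀ z hzU) hzW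
      have h2 := Cfsg.Agent.H884.SingMaxPlus.finrank_sup_span hz
      obtain ⟨U', h3, h4, h5⟩ := ih _ h1 (by omega)
      exact ⟨U', le_sup_left.trans h3, h4, h5⟩
  have h6 := two_mul_finrank_le hQ hU
  exact key (finrank F U₀ - finrank F U) U hU (by omega)

/-- **`V` and `W` of plus type: `W^⊥` is of plus type.** -/
theorem plus_perp [Finite F] (hQ : IsNondegenerateQuadraticForm Q) (hplus : IsPlusTypeOn Q ⊤)
    {W : Submodule F (ι → F)} (hW : IsNondegenerateOn (polar Q) W) (hWp : IsPlusTypeOn Q W) :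
    IsPlusTypeOn Q (perp hQ.polar_bilinear W) := by
  obtain ⟨U, hUW, hU, hd⟩ := hWp
  obtain ⟨U', hUU', hU', hd'⟩ := exists_maximal_above hQ hplus hU
  have hfr := finrank_perp hQ.polar_bilinear hQ.nondegenerate W
  refine ⟨U' ⊓ perp hQ.polar_bilinear W, inf_le_right, fun u hu => hU' u hu.1, ?_⟩
  -- `U' ≤ U ⊔ (U' ⊓ W^⊥)`
  have hle : U' ≤ U ⊔ (U' ⊓ perp hQ.polar_bilinear W) := by
    intro u hu
    have hu' : u ∈ W ⊔ perp hQ.polar_bilinear W := by rw [sup_perp hQ hW]; exact Submodule.mem_top
    rw [Submodule.mem_sup] at hu'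
    obtain ⟨w, hw, z, hz, rfl⟩ := hu'
    -- `w ⟂ U`, hence `w ∈ U`
    have hwU : w ∈ U := by
      have hperp : ∀ x ∈ U, polar Q x w = 0 := by
        intro x hx
        have h1 : polar Q x (w + z) = 0 := by
          have h2 := hU' (x + (w + z)) (U'.add_mem (hUU' hx) hu)
          rw [Q_add' hQ, hU' x (hUU' hx), hU' _ hu, zero_add, zero_add] at h2
          exact h2
        have hz' : polar Q x z = 0 := hz x (hUW hx)
        rw [hQ.polar_bilinear.add_right, hz', add_zero] at h1
        exact h1
      -- inside `W`: `U` is its own orthogonal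
      by_contra hwU
      have hnd := nondeg_sub hQ hW
      let U₁ : Submodule F W := U.comap W.subtype
      have e1 : U₁.map W.subtype = U := by
        rw [Submodule.map_comap_subtype]
        exact inf_eq_right.2 hUW
      have hU₁ : ∀ u ∈ U₁, ((qf hQ).comp W.subtype) u = 0 := fun u hu => hU _ hu
      have hdU₁ : finrank F U₁ = finrank F U := by rw [← finrank_map_subtype W, e1]
      have h3 := Cfsg.Agent.H884.SingMaxPlus.finrank_orthogonal hnd U₁
      have h4 : U₁ ≤ LinearMap.BilinForm.orthogonal (polarBilin ((qf hQ).comp W.subtype)) U₁ := by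
        intro u hu
        rw [LinearMap.BilinForm.mem_orthogonal_iff]
        intro x hx
        change polar Q (x : ι → F) (u : ι → F) = 0
        have h5 := hU ((x : ι → F) + (u : ι → F)) (U.add_mem hx hu)
        have hx0 : Q (x : ι → F) = 0 := hU _ hx
        have hu0 : Q (u : ι → F) = 0 := hU _ hu
        rw [Q_add' hQ, hx0, hu0, zero_add, zero_add] at h5
        exact h5
      have h5 : U₁ = LinearMap.BilinForm.orthogonal (polarBilin ((qf hQ).comp W.subtype)) U₁ :=
        Submodule.eq_of_le_of_finrank_eq h4 (by omega)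
      have h6 : (⟨w, hw⟩ : W) ∈ LinearMap.BilinForm.orthogonal (polarBilin ((qf hQ).comp W.subtype)) U₁ := by
        rw [LinearMap.BilinForm.mem_orthogonal_iff]
        intro x hx
        exact hperp x hx
      rw [← h5] at h6
      exact hwU h6
    have hzU : z ∈ U' := by
      have h7 := U'.sub_mem hu (hUU' hwU)
      rwa [add_sub_cancel_left] at h7
    exact Submodule.mem_sup.2 ⟨w, hwU, z, ⟨hzU, hz⟩, rfl⟩
  have h8 := Submodule.finrank_mono hle
  have h9 := Submodule.finrank_add_le_finrank_add_finrank U (U' ⊓ perp hQ.polar_bilinear W)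
  -- upper bound
  have h10 := Cfsg.Agent.H884.SingMaxPlus.two_mul_finrank_le (nondeg_sub hQ (perp_nondegenerate hQ hW))
    (W := (U' ⊓ perp hQ.polar_bilinear W).comap (perp hQ.polar_bilinear W).subtype) (fun u hu => hU' _ hu.1)
  have h11 : finrank F ((U' ⊓ perp hQ.polar_bilinear W).comap (perp hQ.polar_bilinear W).subtype) =
      finrank F (U' ⊓ perp hQ.polar_bilinear W : Submodule F (ι → F)) := by
    rw [← finrank_map_subtype (perp hQ.polar_bilinear W), Submodule.map_comap_subtype, inf_eq_right.2 inf_le_right]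
  rw [h11] at h10
  omega

/-- **`W` and `W^⊥` of plus type: `V` is of plus type.** -/
theorem plus_of_plus (hQ : IsNondegenerateQuadraticForm Q) {W : Submodule F (ι → F)}
    (hW : IsNondegenerateOn (polar Q) W) (hWp : IsPlusTypeOn Q W)
    (hWp' : IsPlusTypeOn Q (perp hQ.polar_bilinear W)) : IsPlusTypeOn Q ⊤ := by
  obtain ⟨U, hUW, hU, hd⟩ := hWp
  obtain ⟨U', hUW', hU', hd'⟩ := hWp'
  have hfr := finrank_perp hQ.polar_bilinear hQ.nondegenerate W
  refine ⟨U ⊔ U', le_top, ?_, ?_⟩
  · intro u hu
    rw [Submodule.mem_sup] at hu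
    obtain ⟨x, hx, y, hy, rfl⟩ := hu
    have hxy : polar Q x y = 0 := (hUW' hy) x (hUW hx)
    rw [Q_add' hQ, hU x hx, hU' y hy, hxy]
    simp
  · have h1 := Submodule.finrank_sup_add_finrank_inf_eq U U'
    have h2 : U ⊓ U' = ⊥ := by
      rw [eq_bot_iff, ← inf_perp hQ hW]
      exact inf_le_inf hUW hUW'
    rw [h2, finrank_bot] at h1
    rw [finrank_top, Module.finrank_fintype_fun_eq_card]
    omega

/-- **`2 dim W = dim V`, `W` and `W^⊥` of the same type: `V` is of plus type.** -/
theorem plus_of_same_type [Finite F] (hQ : IsNondegenerateQuadraticForm Q) {W : Submodule F (ι → F)}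
    (hW : IsNondegenerateOn (polar Q) W) (he : Even (finrank F W)) (hd : 2 * finrank F W = Fintype.card ι)
    (h : IsPlusTypeOn Q W ↔ IsPlusTypeOn Q (perp hQ.polar_bilinear W)) : IsPlusTypeOn Q ⊤ := by
  have hfr := finrank_perp hQ.polar_bilinear hQ.nondegenerate W
  set W' := perp hQ.polar_bilinear W with hW'
  have hW'n := perp_nondegenerate hQ hW
  have hneg : Nondeg (-((qf hQ).comp W'.subtype)) := by
    intro x hx
    apply nondeg_sub hQ hW'n x
    intro y
    have h1 := hx y
    have h2 : polar (-((qf hQ).comp W'.subtype)) x y = - polar ((qf hQ).comp W'.subtype) x y := by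
      simp only [polar, neg_apply]; ring
    rw [h2, neg_eq_zero] at h1
    exact h1
  have hpl : Pl (-((qf hQ).comp W'.subtype)) ↔ Pl ((qf hQ).comp W'.subtype) := by
    constructor
    · rintro ⟨U, hU, hUd⟩
      exact ⟨U, fun u hu => by
        have := hU u hu
        rwa [neg_apply, neg_eq_zero] at this, hUd⟩
    · rintro ⟨U, hU, hUd⟩
      exact ⟨U, fun u hu => by rw [neg_apply, hU u hu, neg_zero], hUd⟩
  obtain ⟨e, he'⟩ := exists_isometry (nondeg_sub hQ hW) hneg he (by omega)
    ((pl_sub_iff hQ W).trans (h.trans ((pl_sub_iff hQ W').symm.trans hpl.symm)))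
  -- the graph
  let f : W →ₗ[F] (ι → F) := W.subtype + W'.subtype ∘ₗ (e : W →ₗ[F] W')
  have hf : ∀ w : W, f w = (w : ι → F) + (e w : ι → F) := fun w => rfl
  have hinj : Function.Injective f := by
    rw [← LinearMap.ker_eq_bot, eq_bot_iff]
    intro w hw
    rw [LinearMap.mem_ker, hf] at hw
    have h1 : (w : ι → F) = -(e w : ι → F) := eq_neg_of_add_eq_zero_left hw
    have h2 : (w : ι → F) ∈ W ⊓ W' := ⟨w.2, by rw [h1]; exact W'.neg_mem (e w).2⟩
    rw [hW', inf_perp hQ hW, Submodule.mem_bot] at h2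
    exact Subtype.ext h2
  refine ⟨LinearMap.range f, le_top, ?_, ?_⟩
  · rintro _ ⟨w, rfl⟩
    have hxy : polar Q (w : ι → F) (e w : ι → F) = 0 := (e w).2 w.1 w.2
    rw [hf, Q_add' hQ, hxy, add_zero]
    have h3 : -(Q (e w : ι → F)) = Q (w : ι → F) := he' w
    rw [← h3]; ring
  · rw [LinearMap.finrank_range_of_inj hinj, finrank_top, Module.finrank_fintype_fun_eq_card, hd]

/-! ### The pair `{W, W^⊥}` -/

theorem isMDecomposition_pair (hQ : IsNondegenerateQuadraticForm Q) {W : Submodule F (ι → F)}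
    (hW : IsNondegenerateOn (polar Q) W) (hd : 2 * finrank F W = Fintype.card ι) (hc : 0 < Fintype.card ι) :
    IsMDecomposition (finrank F W) ![W, perp hQ.polar_bilinear W] := by
  have hfr := finrank_perp hQ.polar_bilinear hQ.nondegenerate W
  have hR := inf_perp hQ hW
  refine ⟨le_rfl, by omega, ?_, ?_, ?_⟩
  · intro i
    fin_cases i
    · rfl
    · change Module.finrank F (perp hQ.polar_bilinear W) = _
      omega
  · rw [iSupIndep_def]
    intro i
    fin_cases i
    · rw [disjoint_iff_inf_le]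
      intro v hv
      have h2 : (⨆ j : Fin 2, ⨆ _ : j ≠ 0, (![W, perp hQ.polar_bilinear W] : Fin 2 → Submodule F (ι → F)) j) ≤
          perp hQ.polar_bilinear W := by
        apply iSup₂_le
        intro j hj
        fin_cases j
        · exact absurd rfl hj
        · exact le_rfl
      have h3 : v ∈ W ⊓ perp hQ.polar_bilinear W := ⟨hv.1, h2 hv.2⟩
      rw [hR] at h3
      exact h3
    · rw [disjoint_iff_inf_le]
      intro v hv
      have h2 : (⨆ j : Fin 2, ⨆ _ : j ≠ 1, (![W, perp hQ.polar_bilinear W] : Fin 2 → Submodule F (ι → F)) j) ≤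
          W := by
        apply iSup₂_le
        intro j hj
        fin_cases j
        · exact le_rfl
        · exact absurd rfl hj
      have h3 : v ∈ W ⊓ perp hQ.polar_bilinear W := ⟨h2 hv.2, hv.1⟩
      rw [hR] at h3
      exact h3
  · rw [eq_top_iff, ← sup_perp hQ hW]
    apply sup_le
    · exact le_iSup (![W, perp hQ.polar_bilinear W] : Fin 2 → Submodule F (ι → F)) 0
    · exact le_iSup (![W, perp hQ.polar_bilinear W] : Fin 2 → Submodule F (ι → F)) 1

/-- **`V` of plus type, `2 dim W = dim V`, `dim W` even: `{W, W^⊥}` is an orthogonal decomposition into isometric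
subspaces.** -/
theorem isOrthogonalMDecomposition_half [Finite F] (hQ : IsNondegenerateQuadraticForm Q) (hplus : IsPlusTypeOn Q ⊤)
    {W : Submodule F (ι → F)} (hW : IsNondegenerateOn (polar Q) W) (hd : 2 * finrank F W = Fintype.card ι)
    (he : Even (finrank F W)) (hc : 0 < Fintype.card ι) :
    IsOrthogonalMDecomposition Q (finrank F W) ![W, perp hQ.polar_bilinear W] := by
  have hfr := finrank_perp hQ.polar_bilinear hQ.nondegenerate W
  have hnp := perp_nondegenerate hQ hW
  have hpp : perp hQ.polar_bilinear (perp hQ.polar_bilinear W) = W :=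
    perp_perp hQ.polar_bilinear (fun u v => polar_comm Q u v) hQ.nondegenerate W
  have hiff : IsPlusTypeOn Q W ↔ IsPlusTypeOn Q (perp hQ.polar_bilinear W) := by
    constructor
    · exact plus_perp hQ hplus hW
    · intro h
      have := plus_perp hQ hplus hnp h
      rwa [hpp] at this
  have hiso : AreIsometricFor Q W (perp hQ.polar_bilinear W) :=
    areIsometricFor_of_type hQ hW hnp he (by omega) hiff
  refine ⟨⟨isMDecomposition_pair hQ hW hd hc, ?_, ?_⟩, ?_⟩
  · intro i
    fin_cases i
    · exact hW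
    · exact hnp
  · intro i j hij u hu v hv
    fin_cases i <;> fin_cases j
    · exact absurd rfl hij
    · exact hv u hu
    · have h1 : polar Q v u = 0 := hu v hv
      rw [polar_comm]; exact h1
    · exact absurd rfl hij
  · intro i j
    fin_cases i <;> fin_cases j
    · exact ⟨LinearEquiv.refl F _, fun _ => rfl⟩
    · exact hiso
    · exact areIsometricFor_symm hiso
    · exact ⟨LinearEquiv.refl F _, fun _ => rfl⟩

theorem map_eq_of_mem {W : Submodule F (ι → F)} {g : Matrix.GeneralLinearGroup ι F} (h : g ∈ subspaceStabilizer W) :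
    W.map (Matrix.toLin' (g : Matrix ι ι F)) = W := by
  apply Submodule.eq_of_le_of_finrank_le
  · rintro _ ⟨v, hv, rfl⟩
    exact (h v).1 hv
  · exact (LinearEquiv.finrank_map_eq (glLin g) W).ge

theorem le_decompositionStabilizer_half (hQ : IsNondegenerateQuadraticForm Q)
    {W : Submodule F (ι → F)} {H : Subgroup (Matrix.GeneralLinearGroup ι F)}
    (hH : H ≤ Cfsg.isometryGroup F Q) (hHW : H ≤ subspaceStabilizer W) :
    H ≤ decompositionStabilizer ![W, perp hQ.polar_bilinear W] := by
  intro g hg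
  have h1 : W.map (Matrix.toLin' (g : Matrix ι ι F)) = W := map_eq_of_mem (hHW hg)
  have h2 : g ∈ subspaceStabilizer (perp hQ.polar_bilinear W) := by
    apply mem_subspaceStabilizer_of_forall
    intro v hv u hu
    obtain ⟨u', hu', rfl⟩ : u ∈ W.map (Matrix.toLin' (g : Matrix ι ι F)) := by rw [h1]; exact hu
    change polar Q ((g : Matrix ι ι F) *ᵥ u') ((g : Matrix ι ι F) *ᵥ v) = 0
    rw [polar_iso (hH hg)]
    exact hv u' hu'
  refine ⟨Equiv.refl _, fun i => ?_⟩
  fin_cases i
  · exact h1
  · exact map_eq_of_mem h2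

end Cfsg.Agent.H932
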