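import Cfsg.Agent.H912.TensForm4
import Cfsg.Agent.H932.TypeSub
import Cfsg.Agent.H920.PlusA
import Cfsg.Agent.H922.OddThree
import Cfsg.Agent.H925.OrthPlane4
import Cfsg.Agent.H932.TensAlt
import Cfsg.Agent.H914.SpExc2
import Cfsg.Agent.H925.OrthNot
import Cfsg.Agent.H925.OrthPlane3
import Cfsg.Agent.H926.Sub1
import Cfsg.Agent.H924.TensorTwo
set_option linter.all false

-- part: H932/Preserver
section
/-!
Linear maps of `F² ⊗ F²` preserving the determinant form up to a factor (H932).
-/

set_option autoImplicit false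
set_option linter.unusedSectionVars false

namespace Cfsg.Agent.H932

open Cfsg Cfsg.Geo Module
open Cfsg.Agent.H912 (pt kronecker_mulVec_pt)
open scoped Matrix Kronecker MatrixGroups

variable {F : Type*} [Field F]

/-- the determinant form -/
def dq (z : Fin 2 × Fin 2 → F) : F := z (0, 0) * z (1, 1) - z (0, 1) * z (1, 0)

/-- its polar form -/
def dp (z z' : Fin 2 × Fin 2 → F) : F :=
  z (0, 0) * z' (1, 1) + z (1, 1) * z' (0, 0) - z (0, 1) * z' (1, 0) - z (1, 0) * z' (0, 1)

theorem dq_add (z z' : Fin 2 × Fin 2 → F) : dq (z + z') = dq z + dq z' + dp z z' := by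
  simp only [dq, dp, Pi.add_apply]; ring

/-- the alternating form on the plane -/
def om (v v' : Fin 2 → F) : F := v 0 * v' 1 - v 1 * v' 0

theorem dq_pt (v w : Fin 2 → F) : dq (pt v w) = 0 := by
  simp only [dq, pt]; ring

theorem dp_pt (v w v' w' : Fin 2 → F) : dp (pt v w) (pt v' w') = om v v' * om w w' := by
  simp only [dp, om, pt]; ring

theorem exists_pure {z : Fin 2 × Fin 2 → F} (hz : dq z = 0) : ∃ v w : Fin 2 → F, z = pt v w := by
  have hz' : z (0, 0) * z (1, 1) = z (0, 1) * z (1, 0) := by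
    unfold dq at hz
    linear_combination hz
  have key : ∀ i j k l : Fin 2, z (i, j) * z (k, l) = z (k, j) * z (i, l) := by
    intro i j k l
    fin_cases i <;> fin_cases j <;> fin_cases k <;> fin_cases l <;>
      simp only [Fin.zero_eta, Fin.mk_one] <;>
      first
        | ring1
        | linear_combination hz'
        | linear_combination -hz'
  by_cases h0 : z = 0
  · exact ⟨0, 0, by rw [h0]; funext a; simp [pt]⟩
  · obtain ⟨⟨i, j⟩, hij⟩ : ∃ a, z a ≠ 0 := by
      by_contra hc
      push Not at hc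
      exact h0 (funext hc)
    refine ⟨fun k => z (k, j), fun l => z (i, l) / z (i, j), ?_⟩
    funext ⟨k, l⟩
    change z (k, l) = z (k, j) * (z (i, l) / z (i, j))
    rw [← mul_div_assoc, ← key i j k l, mul_div_cancel_left₀ _ hij]

theorem eq_smul_of_om {v v' : Fin 2 → F} (hv : v ≠ 0) (h : om v v' = 0) : ∃ c : F, v' = c • v := by
  unfold om at h
  by_cases h0 : v 0 = 0
  · have h1 : v 1 ≠ 0 := by
      intro h1
      apply hv
      funext i
      fin_cases i
      · exact h0
      · exact h1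
    rw [h0, zero_mul, zero_sub, neg_eq_zero] at h
    have h2 : v' 0 = 0 := (mul_eq_zero.1 h).resolve_left h1
    refine ⟨v' 1 / v 1, ?_⟩
    funext i
    fin_cases i
    · change v' 0 = v' 1 / v 1 * v 0
      rw [h0, h2, mul_zero]
    · change v' 1 = v' 1 / v 1 * v 1
      rw [div_mul_cancel₀ _ h1]
  · refine ⟨v' 0 / v 0, ?_⟩
    funext i
    fin_cases i
    · change v' 0 = v' 0 / v 0 * v 0
      rw [div_mul_cancel₀ _ h0]
    · change v' 1 = v' 0 / v 0 * v 1
      field_simp
      linear_combination h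

theorem om_smul_right (c : F) (v w : Fin 2 → F) : om v (c • w) = c * om v w := by
  simp only [om, Pi.smul_apply, smul_eq_mul]; ring

theorem om_smul_left (c : F) (v w : Fin 2 → F) : om (c • v) w = c * om v w := by
  simp only [om, Pi.smul_apply, smul_eq_mul]; ring

theorem om_self (v : Fin 2 → F) : om v v = 0 := by simp only [om]; ring

theorem om_swap (v w : Fin 2 → F) : om v w = - om w v := by simp only [om]; ring

theorem om_zero_left (v : Fin 2 → F) : om 0 v = 0 := by simp [om]

theorem om_zero_right (v : Fin 2 → F) : om v 0 = 0 := by simp [om]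

/-- the matrix with the given columns -/
def colM (v w : Fin 2 → F) : Matrix (Fin 2) (Fin 2) F := Matrix.of fun i j => ![v i, w i] j

theorem colM_zero (v w : Fin 2 → F) : colM v w *ᵥ Pi.single 0 1 = v := by
  funext i
  simp [colM]

theorem colM_one (v w : Fin 2 → F) : colM v w *ᵥ Pi.single 1 1 = w := by
  funext i
  simp [colM]

theorem det_colM (v w : Fin 2 → F) : (colM v w).det = om v w := by
  rw [Matrix.det_fin_two]
  simp only [colM, om, Matrix.of_apply, Matrix.cons_val_zero, Matrix.cons_val_one]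
  ring

theorem pt_single (i j : Fin 2) : pt (Pi.single i (1 : F)) (Pi.single j (1 : F)) = Pi.single (i, j) 1 := by
  funext ⟨k, l⟩
  simp only [pt, Pi.single_apply, Prod.mk.injEq]
  split_ifs <;> simp_all

theorem mul_sw (B : Matrix (Fin 2 × Fin 2) (Fin 2 × Fin 2) F) (i j : Fin 2) :
    (B.submatrix id (Equiv.prodComm (Fin 2) (Fin 2))) *ᵥ Pi.single (i, j) 1 = B *ᵥ Pi.single (j, i) 1 := by
  funext a
  simp

/-- **Linear preservers of the determinant form.** -/
theorem preserver {B : Matrix (Fin 2 × Fin 2) (Fin 2 × Fin 2) F} {ν : F} (hν : ν ≠ 0)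
    (hB : ∀ z, dq (B *ᵥ z) = ν * dq z) :
    ∃ x y : Matrix (Fin 2) (Fin 2) F, x.det ≠ 0 ∧ y.det ≠ 0 ∧ x.det * y.det = ν ∧
      (B = x ⊗ₖ y ∨ B.submatrix id (Equiv.prodComm (Fin 2) (Fin 2)) = x ⊗ₖ y) := by
  have hp : ∀ z z', dp (B *ᵥ z) (B *ᵥ z') = ν * dp z z' := by
    intro z z'
    have h1 := dq_add (B *ᵥ z) (B *ᵥ z')
    rw [← Matrix.mulVec_add, hB, hB, hB, dq_add] at h1
    linear_combination -h1
  have hs : ∀ i j : Fin 2, dq (B *ᵥ Pi.single (i, j) 1) = 0 := by
    intro i j
    rw [hB, ← pt_single, dq_pt, mul_zero]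
  obtain ⟨v, w, h00⟩ := exists_pure (hs 0 0)
  obtain ⟨v', w', h11⟩ := exists_pure (hs 1 1)
  obtain ⟨s, t, h01⟩ := exists_pure (hs 0 1)
  obtain ⟨s', t', h10⟩ := exists_pure (hs 1 0)
  have e1 : om v v' * om w w' = ν := by
    rw [← dp_pt, ← h00, ← h11, hp, ← pt_single, ← pt_single, dp_pt]
    simp [om]
  have hvv : om v v' ≠ 0 := by
    intro h; rw [h, zero_mul] at e1; exact hν e1.symm
  have hww : om w w' ≠ 0 := by
    intro h; rw [h, mul_zero] at e1; exact hν e1.symm
  have hv0 : v ≠ 0 := by rintro rfl; exact hvv (om_zero_left _)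
  have hv'0 : v' ≠ 0 := by rintro rfl; exact hvv (om_zero_right _)
  have hw0 : w ≠ 0 := by rintro rfl; exact hww (om_zero_left _)
  have hw'0 : w' ≠ 0 := by rintro rfl; exact hww (om_zero_right _)
  have e2 : om v s * om w t = 0 := by
    rw [← dp_pt, ← h00, ← h01, hp, ← pt_single, ← pt_single, dp_pt]
    simp [om]
  have e3 : om v' s * om w' t = 0 := by
    rw [← dp_pt, ← h11, ← h01, hp, ← pt_single, ← pt_single, dp_pt]
    simp [om]
  have e4 : om v s' * om w t' = 0 := by
    rw [← dp_pt, ← h00, ← h10, hp, ← pt_single, ← pt_single, dp_pt]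
    simp [om]
  have e5 : om v' s' * om w' t' = 0 := by
    rw [← dp_pt, ← h11, ← h10, hp, ← pt_single, ← pt_single, dp_pt]
    simp [om]
  have e6 : om s s' * om t t' = - ν := by
    rw [← dp_pt, ← h01, ← h10, hp, ← pt_single, ← pt_single, dp_pt]
    simp [om]
  -- a pure tensor orthogonal to `v ⊗ w` and `v' ⊗ w'`
  have horth : ∀ s t : Fin 2 → F, om v s * om w t = 0 → om v' s * om w' t = 0 →
      (∃ α : F, pt s t = pt v (α • w')) ∨ ∃ α : F, pt s t = pt (α • v') w := by
    intro s t h1 h2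
    rcases mul_eq_zero.1 h1 with h | h
    · obtain ⟨c, rfl⟩ := eq_smul_of_om hv0 h
      rcases mul_eq_zero.1 h2 with h' | h'
      · rw [om_smul_right] at h'
        rcases mul_eq_zero.1 h' with h'' | h''
        · left
          refine ⟨0, ?_⟩
          rw [h'']
          funext a; simp [pt]
        · exact absurd (by rw [om_swap, h'', neg_zero]) hvv
      · obtain ⟨d, rfl⟩ := eq_smul_of_om hw'0 h'
        left
        refine ⟨c * d, ?_⟩
        funext a; simp only [pt, Pi.smul_apply, smul_eq_mul]; ring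
    · obtain ⟨c, rfl⟩ := eq_smul_of_om hw0 h
      rcases mul_eq_zero.1 h2 with h' | h'
      · obtain ⟨d, rfl⟩ := eq_smul_of_om hv'0 h'
        right
        refine ⟨c * d, ?_⟩
        funext a; simp only [pt, Pi.smul_apply, smul_eq_mul]; ring
      · rw [om_smul_right] at h'
        rcases mul_eq_zero.1 h' with h'' | h''
        · left
          refine ⟨0, ?_⟩
          rw [h'']
          funext a; simp [pt]
        · exact absurd (by rw [om_swap, h'', neg_zero]) hww
  have e6' : dp (pt s t) (pt s' t') = -ν := by rw [dp_pt, e6]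
  rcases horth s t e2 e3 with ⟨α, hα⟩ | ⟨α, hα⟩ <;> rcases horth s' t' e4 e5 with ⟨β, hβ⟩ | ⟨β, hβ⟩
  · exfalso
    rw [hα, hβ, dp_pt, om_self, zero_mul] at e6'
    exact hν (by linear_combination e6')
  · -- the first case
    rw [hα, hβ, dp_pt, om_smul_right, om_smul_left, om_swap w' w] at e6'
    have hαβ : α * β = 1 := by
      have h1 : ν * (α * β - 1) = 0 := by
        linear_combination -e6' - (α * β) * e1
      rcases mul_eq_zero.1 h1 with h | h
      · exact absurd h hν
      · linear_combination h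
    refine ⟨colM v (β • v'), colM w (α • w'), ?_, ?_, ?_, Or.inl ?_⟩
    · rw [det_colM, om_smul_right]
      exact mul_ne_zero (right_ne_zero_of_mul_eq_one hαβ) hvv
    · rw [det_colM, om_smul_right]
      exact mul_ne_zero (left_ne_zero_of_mul_eq_one hαβ) hww
    · rw [det_colM, det_colM, om_smul_right, om_smul_right]
      linear_combination (om v v' * om w w') * hαβ + e1
    · apply Matrix.ext_of_mulVec_single
      rintro ⟨i, j⟩
      rw [← pt_single, kronecker_mulVec_pt, pt_single]
      fin_cases i <;> fin_cases j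
      · change B *ᵥ Pi.single (0, 0) 1 = pt (colM v (β • v') *ᵥ Pi.single 0 1) (colM w (α • w') *ᵥ Pi.single 0 1)
        rw [colM_zero, colM_zero]; exact h00
      · change B *ᵥ Pi.single (0, 1) 1 = pt (colM v (β • v') *ᵥ Pi.single 0 1) (colM w (α • w') *ᵥ Pi.single 1 1)
        rw [colM_zero, colM_one, ← hα]; exact h01
      · change B *ᵥ Pi.single (1, 0) 1 = pt (colM v (β • v') *ᵥ Pi.single 1 1) (colM w (α • w') *ᵥ Pi.single 0 1)
        rw [colM_one, colM_zero, ← hβ]; exact h10
      · change B *ᵥ Pi.single (1, 1) 1 = pt (colM v (β • v') *ᵥ Pi.single 1 1) (colM w (α • w') *ᵥ Pi.single 1 1)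
        rw [colM_one, colM_one, h11]
        funext a
        simp only [pt, Pi.smul_apply, smul_eq_mul]
        linear_combination -(v' a.1 * w' a.2) * hαβ
  · -- the second case
    rw [hα, hβ, dp_pt, om_smul_right, om_smul_left, om_swap v' v] at e6'
    have hαβ : α * β = 1 := by
      have h1 : ν * (α * β - 1) = 0 := by
        linear_combination -e6' - (α * β) * e1
      rcases mul_eq_zero.1 h1 with h | h
      · exact absurd h hν
      · linear_combination h
    refine ⟨colM v (α • v'), colM w (β • w'), ?_, ?_, ?_, Or.inr ?_⟩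
    · rw [det_colM, om_smul_right]
      exact mul_ne_zero (left_ne_zero_of_mul_eq_one hαβ) hvv
    · rw [det_colM, om_smul_right]
      exact mul_ne_zero (right_ne_zero_of_mul_eq_one hαβ) hww
    · rw [det_colM, det_colM, om_smul_right, om_smul_right]
      linear_combination (om v v' * om w w') * hαβ + e1
    · apply Matrix.ext_of_mulVec_single
      rintro ⟨i, j⟩
      rw [mul_sw, ← pt_single i j, kronecker_mulVec_pt]
      fin_cases i <;> fin_cases j
      · change B *ᵥ Pi.single (0, 0) 1 = pt (colM v (α • v') *ᵥ Pi.single 0 1) (colM w (β • w') *ᵥ Pi.single 0 1)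
        rw [colM_zero, colM_zero]; exact h00
      · change B *ᵥ Pi.single (1, 0) 1 = pt (colM v (α • v') *ᵥ Pi.single 0 1) (colM w (β • w') *ᵥ Pi.single 1 1)
        rw [colM_zero, colM_one, ← hβ]; exact h10
      · change B *ᵥ Pi.single (0, 1) 1 = pt (colM v (α • v') *ᵥ Pi.single 1 1) (colM w (β • w') *ᵥ Pi.single 0 1)
        rw [colM_one, colM_zero, ← hα]; exact h01
      · change B *ᵥ Pi.single (1, 1) 1 = pt (colM v (α • v') *ᵥ Pi.single 1 1) (colM w (β • w') *ᵥ Pi.single 1 1)
        rw [colM_one, colM_one, h11]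
        funext a
        simp only [pt, Pi.smul_apply, smul_eq_mul]
        linear_combination -(v' a.1 * w' a.2) * hαβ
  · exfalso
    rw [hα, hβ, dp_pt, om_self, mul_zero] at e6'
    exact hν (by linear_combination e6')

/-- A preserver of determinant `ν²` is a Kronecker product (odd characteristic). -/
theorem preserver_of_det {B : Matrix (Fin 2 × Fin 2) (Fin 2 × Fin 2) F} {ν : F} (hν : ν ≠ 0)
    (hB : ∀ z, dq (B *ᵥ z) = ν * dq z) (hdet : B.det ≠ - ν ^ 2) :
    ∃ x y : Matrix (Fin 2) (Fin 2) F, x.det ≠ 0 ∧ y.det ≠ 0 ∧ B = x ⊗ₖ y := by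
  obtain ⟨x, y, hx, hy, hxy, h | h⟩ := preserver hν hB
  · exact ⟨x, y, hx, hy, h⟩
  · exfalso
    apply hdet
    have h1 := congrArg Matrix.det h
    rw [Matrix.det_kronecker, Fintype.card_fin] at h1
    have h3 : (B.submatrix id (Equiv.prodComm (Fin 2) (Fin 2))).det = - B.det := by
      rw [Matrix.det_permute']
      have : Equiv.Perm.sign (Equiv.prodComm (Fin 2) (Fin 2)) = -1 := by decide
      rw [this]
      simp
    rw [h3] at h1
    rw [← hxy]
    linear_combination -h1

theorem det_of_preserver {B : Matrix (Fin 2 × Fin 2) (Fin 2 × Fin 2) F} {ν : F} (hν : ν ≠ 0)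
    (hB : ∀ z, dq (B *ᵥ z) = ν * dq z) : B.det = ν ^ 2 ∨ B.det = - ν ^ 2 := by
  obtain ⟨x, y, hx, hy, hxy, h | h⟩ := preserver hν hB
  · left
    rw [h, Matrix.det_kronecker, Fintype.card_fin, ← hxy]; ring
  · right
    have h1 := congrArg Matrix.det h
    rw [Matrix.det_kronecker, Fintype.card_fin] at h1
    have h3 : (B.submatrix id (Equiv.prodComm (Fin 2) (Fin 2))).det = - B.det := by
      rw [Matrix.det_permute']
      have : Equiv.Perm.sign (Equiv.prodComm (Fin 2) (Fin 2)) = -1 := by decide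
      rw [this]
      simp
    rw [h3] at h1
    rw [← hxy]
    linear_combination -h1

end Cfsg.Agent.H932
end

-- part: H932/Refine
section
/-!
Orthogonal decompositions of quadratic spaces (H932).

* `isNondegenerateMDecomposition_of_orth`: pairwise orthogonal nondegenerate `m`-spaces filling the dimension;
* `plus_part_of_plus`: `V` of plus type, `t` odd, `m` even: the members are of plus type;
* `plus_of_plus_part`: members of plus type: `V` of plus type;
* `plus_fours_two`: `q = 2`, members of dimension four and plus type: refine to planes of minus type.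
-/

set_option autoImplicit false
set_option linter.unusedSectionVars false

namespace Cfsg.Agent.H932

open Cfsg Cfsg.Geo Module
open QuadraticMap hiding proj
open Cfsg.Agent.LieClassical.OrthCore Cfsg.Agent.LieClassical.OrthTrans Cfsg.Agent.LieClassical.OrthFinite
open Cfsg.Agent.H925 Cfsg.Agent.H922
open scoped Matrix

variable {ι : Type} [Fintype ι] [DecidableEq ι] {F : Type*} [Field F] {Q : (ι → F) → F}

theorem isNondegenerateMDecomposition_of_orth (hQ : IsNondegenerateQuadraticForm Q) {s m : ℕ} (hs : 2 ≤ s)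
    (hm : 0 < m) (hcard : s * m = Fintype.card ι) {D : Fin s → Submodule F (ι → F)}
    (hfr : ∀ i, finrank F (D i) = m) (hnd : ∀ i, IsNondegenerateOn (polar Q) (D i))
    (horth : ∀ i j, i ≠ j → AreOrthogonalFor (polar Q) (D i) (D j)) :
    IsNondegenerateMDecomposition (polar Q) m D := by
  classical
  have hf := H925.hermForm_polar hQ
  let L : (∀ i, D i) →ₗ[F] (ι → F) := ∑ i, (D i).subtype ∘ₗ LinearMap.proj i
  have hL : ∀ x, L x = ∑ i, (x i : ι → F) := by
    intro x
    simp only [L, LinearMap.sum_apply]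
    rfl
  have hinj : Function.Injective L := by
    rw [← LinearMap.ker_eq_bot, eq_bot_iff]
    intro x hx
    rw [LinearMap.mem_ker, hL] at hx
    rw [Submodule.mem_bot]
    funext i
    by_contra h0
    have h0' : (x i : ι → F) ≠ 0 := fun h => h0 (Subtype.ext h)
    obtain ⟨-, y, hy, hxy⟩ := hnd i _ (x i).2 h0'
    apply hxy
    have h1 : polar Q (∑ j, (x j : ι → F)) y = 0 := by
      rw [hx]
      exact hf.zero_left y
    rw [hf.sum_left, Finset.sum_eq_single i] at h1
    · exact h1
    · intro j _ hj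
      exact horth j i hj _ (x j).2 _ hy
    · intro h; exact absurd (Finset.mem_univ i) h
  refine ⟨⟨hs, hm, hfr, ?_, ?_⟩, hnd, horth⟩
  · rw [iSupIndep_def]
    intro i
    rw [disjoint_iff, eq_bot_iff, ← inf_perp hQ (hnd i)]
    apply inf_le_inf le_rfl
    apply iSup₂_le
    intro j hj x hx y hy
    exact horth i j (Ne.symm hj) y hy x hx
  · have h1 : finrank F (LinearMap.range L) = Fintype.card ι := by
      rw [LinearMap.finrank_range_of_inj hinj, Module.finrank_pi_fintype]
      simp only [hfr, Finset.sum_const, Finset.card_univ, Fintype.card_fin, smul_eq_mul]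
      exact hcard
    have h2 : LinearMap.range L = ⊤ := by
      apply Submodule.eq_top_of_finrank_eq
      rw [h1, Module.finrank_fintype_fun_eq_card]
    rw [eq_top_iff, ← h2]
    rintro _ ⟨x, rfl⟩
    rw [hL]
    exact Submodule.sum_mem _ fun i _ => (le_iSup D i) (x i).2

/-- **`V` of plus type, an odd number of isometric members of even dimension: the members are of plus type.** -/
theorem plus_part_of_plus [Fintype F] (hQ : IsNondegenerateQuadraticForm Q) (hplus : IsPlusTypeOn Q ⊤) {t m : ℕ}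
    (ht : Odd t) (hm : Even m) {D : Fin t → Submodule F (ι → F)} (hD : IsOrthogonalMDecomposition Q m D)
    (i₀ : Fin t) : IsPlusTypeOn Q (D i₀) := by
  obtain ⟨s, hs⟩ := ht
  have htm : t * m = Fintype.card ι := H922.mul_eq_card hD.decomp.decomp
  let z : Fin t := ⟨2 * s, by omega⟩
  apply isPlusTypeOn_of_isometric (hD.isometric z i₀)
  choose e he using hD.isometric z
  let q : QuadraticForm F (D z) := (H925.qf hQ).comp (D z).subtype
  have hnd := nondeg_sub hQ (hD.decomp.nondegenerate z)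
  have hfr : Module.finrank F (D z) = m := hD.decomp.decomp.finrank_eq z
  set W' := perp hQ.polar_bilinear (D z) with hW'
  let q' : QuadraticForm F W' := (H925.qf hQ).comp W'.subtype
  have hle : ∀ p : Fin s × Fin 2, (finProdFinEquiv p).val < 2 * s := by
    intro p
    have := (finProdFinEquiv p).isLt
    omega
  let idx : Fin s × Fin 2 → Fin t := fun p => ⟨(finProdFinEquiv p).val, by have := hle p; omega⟩
  have hidx : ∀ p, idx p ≠ z := by
    intro p h
    have h1 : (finProdFinEquiv p).val = 2 * s := congrArg Fin.val h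
    have := hle p
    omega
  have hinj : Function.Injective idx := by
    intro p p' h
    have h1 : (idx p).val = (idx p').val := by rw [h]
    exact finProdFinEquiv.injective (Fin.ext h1)
  let E : Fin s × Fin 2 → (D z →ₗ[F] W') := fun p =>
    LinearMap.codRestrict W' ((D (idx p)).subtype.comp (e (idx p) : D z →ₗ[F] D (idx p))) (by
      intro w x hx
      exact hD.decomp.orthogonal z (idx p) (Ne.symm (hidx p)) x hx _ (e (idx p) w).2)
  obtain ⟨U, hU, hU'⟩ := H920.ts_two_mul q' q hnd (H920.exists_anti_even q hnd (hfr ▸ hm)) E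
    (fun p w => he _ w)
    (fun i j hij x y => hD.decomp.orthogonal _ _ (fun h => hij (hinj h)) _ (e (idx i) x).2 _ (e (idx j) y).2)
  have hfr' := finrank_perp hQ.polar_bilinear hQ.nondegenerate (D z)
  have hW'p : IsPlusTypeOn Q W' := by
    rw [← pl_sub_iff hQ]
    refine ⟨U, hU, ?_⟩
    rw [hU', hfr]
    have h1 : finrank F W' = Fintype.card ι - m := by rw [hW']; omega
    rw [h1, ← htm, hs]
    have : (2 * s + 1) * m = 2 * (s * m) + m := by ring
    omega
  have h := plus_perp hQ hplus (perp_nondegenerate hQ (hD.decomp.nondegenerate z)) hW'p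
  rwa [perp_perp hQ.polar_bilinear (fun u v => polar_comm Q u v) hQ.nondegenerate] at h

/-- **Members of plus type: the space is of plus type.** -/
theorem plus_of_plus_part (hQ : IsNondegenerateQuadraticForm Q) {t m : ℕ}
    {D : Fin t → Submodule F (ι → F)} (hD : IsOrthogonalMDecomposition Q m D)
    (i₀ : Fin t) (hp : IsPlusTypeOn Q (D i₀)) : IsPlusTypeOn Q ⊤ := by
  have htm : t * m = Fintype.card ι := H922.mul_eq_card hD.decomp.decomp
  obtain ⟨Φ, hΦ, -⟩ := exists_power_iso hQ hD i₀
  obtain ⟨U, hUD, hU, hd⟩ := hp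
  let U₁ : Submodule F (D i₀) := U.comap (D i₀).subtype
  have e1 : finrank F U₁ = finrank F U := by
    rw [← finrank_map_subtype, Submodule.map_comap_subtype, inf_eq_right.2 hUD]
  let X : (Fin t → U₁) →ₗ[F] (ι → F) :=
    Φ.toLinearMap ∘ₗ LinearMap.pi (fun i => U₁.subtype ∘ₗ LinearMap.proj i)
  have hX : ∀ x, X x = Φ (fun i => (x i : D i₀)) := fun x => rfl
  have hinj : Function.Injective X := by
    intro x y h
    rw [hX, hX] at h
    funext i
    exact Subtype.ext (congrFun (Φ.injective h) i)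
  refine ⟨LinearMap.range X, le_top, ?_, ?_⟩
  · rintro _ ⟨x, rfl⟩
    rw [hX, hΦ]
    exact Finset.sum_eq_zero fun i _ => hU _ (x i).2
  · have hfree : Module.Free F U₁ := Module.Free.of_divisionRing F U₁
    rw [LinearMap.finrank_range_of_inj hinj, Module.finrank_pi_fintype, finrank_top,
      Module.finrank_fintype_fun_eq_card]
    simp only [Finset.sum_const, Finset.card_univ, Fintype.card_fin, smul_eq_mul]
    rw [e1, ← htm, ← hD.decomp.decomp.finrank_eq i₀, ← hd]
    ring

/-! ### Four-dimensional members over the field with two elements -/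

/-- the form `x² + x y + y²` -/
def nB (F : Type*) [Field F] : LinearMap.BilinForm F (F × F) :=
  LinearMap.mk₂ F (fun p q => p.1 * q.1 + p.1 * q.2 + p.2 * q.2)
    (fun p p' q => by simp; ring) (fun c p q => by simp; ring) (fun p q q' => by simp; ring)
    (fun c p q => by simp; ring)

def nQ (F : Type*) [Field F] : QuadraticForm F (F × F) := (nB F).toQuadraticMap

theorem nQ_apply (p : F × F) : nQ F p = p.1 * p.1 + p.1 * p.2 + p.2 * p.2 := rfl

theorem polar_nQ (p q : F × F) : polar (nQ F) p q = 2 * (p.1 * q.1) + (p.1 * q.2 + p.2 * q.1) + 2 * (p.2 * q.2) := by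
  simp only [polar, nQ_apply, Prod.fst_add, Prod.snd_add]
  ring

theorem nQ_eq_one [Fintype F] (hF : Fintype.card F = 2) {p : F × F} (hp : p ≠ 0) : nQ F p = 1 := by
  have h2 : (2 : F) = 0 := by
    have := FiniteField.cast_card_eq_zero F
    rw [hF] at this
    exact_mod_cast this
  have h01 : ∀ x : F, x = 0 ∨ x = 1 := by
    intro x
    by_cases hx : x = 0
    · exact Or.inl hx
    · right
      have := FiniteField.pow_card_sub_one_eq_one x hx
      rwa [hF, pow_one] at this
  obtain ⟨a, b⟩ := p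
  rw [nQ_apply]
  rcases h01 a with rfl | rfl <;> rcases h01 b with rfl | rfl
  · exact absurd rfl hp
  · ring
  · ring
  · linear_combination h2

/-- **q = 2**: the stabiliser of an orthogonal decomposition into four-dimensional members of plus type stabilises an
orthogonal decomposition into planes of minus type. -/
theorem plus_fours_two [Fintype F] (hF : Fintype.card F = 2) (hQ : IsNondegenerateQuadraticForm Q) {t : ℕ}
    {D : Fin t → Submodule F (ι → F)} (hD : IsOrthogonalMDecomposition Q 4 D) (hp : ∀ i, IsPlusTypeOn Q (D i)) :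
    ∃ D' : Fin (t * 2) → Submodule F (ι → F), IsOrthogonalMDecomposition Q 2 D' ∧
      (∀ i, ¬ IsPlusTypeOn Q (D' i)) ∧
      decompositionStabilizer D ⊓ isometryGroup F Q ≤ decompositionStabilizer D' := by
  classical
  have h2 : (2 : F) = 0 := by
    have := FiniteField.cast_card_eq_zero F
    rw [hF] at this
    exact_mod_cast this
  have hcard : t * 4 = Fintype.card ι := H922.mul_eq_card hD.decomp.decomp
  have hn0 : ∀ p : F × F, nQ F p = 0 → p = 0 := by
    intro p h
    by_contra h0
    rw [nQ_eq_one hF h0] at h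
    exact one_ne_zero h
  -- the model
  have hnd : Nondeg ((nQ F).prod (nQ F)) := by
    rintro ⟨⟨a, b⟩, ⟨c, d⟩⟩ h
    have e1 := h (((0 : F), (1 : F)), ((0 : F), (0 : F)))
    have e2 := h (((1 : F), (0 : F)), ((0 : F), (0 : F)))
    have e3 := h (((0 : F), (0 : F)), ((0 : F), (1 : F)))
    have e4 := h (((0 : F), (0 : F)), ((1 : F), (0 : F)))
    simp only [polar, QuadraticMap.prod_apply, nQ_apply, Prod.fst_add, Prod.snd_add] at e1 e2 e3 e4
    have f1 : a = 0 := by linear_combination e1 - b * h2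
    have f2 : b = 0 := by linear_combination e2 - a * h2
    have f3 : c = 0 := by linear_combination e3 - d * h2
    have f4 : d = 0 := by linear_combination e4 - c * h2
    rw [f1, f2, f3, f4]; rfl
  have hfr : finrank F ((F × F) × (F × F)) = 4 := by
    rw [finrank_prod, finrank_prod, finrank_self]
  have hpl : Pl ((nQ F).prod (nQ F)) := by
    let φ : (F × F) →ₗ[F] ((F × F) × (F × F)) := LinearMap.prod LinearMap.id LinearMap.id
    have hφ : ∀ w, φ w = (w, w) := fun w => rfl
    have hinj : Function.Injective φ := by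
      intro x y h
      exact congrArg Prod.fst h
    refine ⟨LinearMap.range φ, ?_, ?_⟩
    · rintro _ ⟨w, rfl⟩
      rw [hφ, QuadraticMap.prod_apply]
      change nQ F w + nQ F w = 0
      linear_combination (nQ F w) * h2
    · rw [LinearMap.finrank_range_of_inj hinj, hfr, finrank_prod, finrank_self]
  choose e he using fun i => exists_isometry hnd (nondeg_sub hQ (hD.decomp.nondegenerate i)) (by rw [hfr]; decide)
    (by rw [hfr, hD.decomp.decomp.finrank_eq i])
    ⟨fun _ => (pl_sub_iff hQ (D i)).2 (hp i), fun _ => hpl⟩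
  have he' : ∀ i x, Q (e i x : ι → F) = nQ F x.1 + nQ F x.2 := fun i x => he i x
  let j : Fin 2 → ((F × F) →ₗ[F] ((F × F) × (F × F))) := ![LinearMap.inl F (F × F) (F × F), LinearMap.inr F (F × F) (F × F)]
  have hj : ∀ k w, nQ F (j k w).1 + nQ F (j k w).2 = nQ F w := by
    intro k w
    fin_cases k
    · change nQ F w + nQ F 0 = nQ F w
      rw [QuadraticMap.map_zero, add_zero]
    · change nQ F 0 + nQ F w = nQ F w
      rw [QuadraticMap.map_zero, zero_add]
  let φ : Fin t → Fin 2 → ((F × F) →ₗ[F] (ι → F)) := fun i k =>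
    (D i).subtype ∘ₗ (e i : ((F × F) × (F × F)) →ₗ[F] D i) ∘ₗ j k
  have hφ : ∀ i k w, φ i k w = (e i (j k w) : ι → F) := fun i k w => rfl
  have hφD : ∀ i k w, φ i k w ∈ D i := fun i k w => (e i (j k w)).2
  have hφQ : ∀ i k w, Q (φ i k w) = nQ F w := by
    intro i k w
    rw [hφ, he', hj]
  have hφinj : ∀ i k, Function.Injective (φ i k) := by
    intro i k x y h
    have h1 : φ i k (x - y) = 0 := by rw [map_sub, h, sub_self]
    have h3 : nQ F (x - y) = 0 := by rw [← hφQ i k, h1]; exact Q_zero hQ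
    exact sub_eq_zero.1 (hn0 _ h3)
  have hφp : ∀ i k w w', polar Q (φ i k w) (φ i k w') = polar (nQ F) w w' := by
    intro i k w w'
    simp only [polar, ← map_add, hφQ]
  have hφo : ∀ i k l, k ≠ l → ∀ w w', polar Q (φ i k w) (φ i l w') = 0 := by
    intro i k l hkl w w'
    have h3 : Q (φ i k w + φ i l w') = nQ F w + nQ F w' := by
      rw [hφ, hφ, ← Submodule.coe_add, ← map_add, he']
      fin_cases k <;> fin_cases l
      · exact absurd rfl hkl
      · change nQ F (w + 0) + nQ F (0 + w') = _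
        rw [add_zero, zero_add]
      · change nQ F (0 + w') + nQ F (w + 0) = _
        rw [add_zero, zero_add, add_comm]
      · exact absurd rfl hkl
    rw [polar, h3, hφQ, hφQ]; ring
  let E : Fin (t * 2) ≃ Fin t × Fin 2 := finProdFinEquiv.symm
  let D' : Fin (t * 2) → Submodule F (ι → F) := fun a => LinearMap.range (φ (E a).1 (E a).2)
  have hDnd : IsNondegenerateMDecomposition (polar Q) 2 D' := by
    have ht := hD.decomp.decomp.two_le
    apply isNondegenerateMDecomposition_of_orth hQ (by omega) two_pos (by omega)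
    · intro a
      change finrank F (LinearMap.range _) = 2
      rw [LinearMap.finrank_range_of_inj (hφinj _ _), finrank_prod, finrank_self]
    · rintro a _ ⟨w, rfl⟩ hw
      have hw0 : w ≠ 0 := by
        rintro rfl
        exact hw (map_zero _)
      have key : ∃ w', polar (nQ F) w w' ≠ 0 := by
        obtain ⟨x, y⟩ := w
        by_contra hc
        push Not at hc
        have c1 := hc (0, 1)
        have c2 := hc (1, 0)
        rw [polar_nQ] at c1 c2
        apply hw0
        have f1 : x = 0 := by linear_combination c1 - y * h2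
        have f2 : y = 0 := by linear_combination c2 - x * h2
        rw [f1, f2]; rfl
      obtain ⟨w', hw'⟩ := key
      refine ⟨⟨_, ⟨w', rfl⟩, ?_⟩, ⟨_, ⟨w', rfl⟩, ?_⟩⟩
      · rw [hφp, polar_comm]; exact hw'
      · rw [hφp]; exact hw'
    · rintro a b hab _ ⟨w, rfl⟩ _ ⟨w', rfl⟩
      have hne : E a ≠ E b := fun h => hab (E.injective h)
      rcases h1 : E a with ⟨a1, a2⟩
      rcases h2' : E b with ⟨b1, b2⟩
      rw [h1, h2'] at hne
      change polar Q (φ a1 a2 w) (φ b1 b2 w') = 0
      by_cases h3 : a1 = b1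
      · subst h3
        exact hφo a1 a2 b2 (fun h => hne (by rw [h])) w w'
      · exact hD.decomp.orthogonal a1 b1 h3 _ (hφD _ _ _) _ (hφD _ _ _)
  refine ⟨D', ⟨hDnd, ?_⟩, ?_, ?_⟩
  · intro a b
    refine ⟨(LinearEquiv.ofInjective _ (hφinj (E a).1 (E a).2)).symm.trans
      (LinearEquiv.ofInjective _ (hφinj (E b).1 (E b).2)), fun w => ?_⟩
    obtain ⟨x, rfl⟩ := (LinearEquiv.ofInjective _ (hφinj (E a).1 (E a).2)).surjective w
    rw [LinearEquiv.trans_apply, LinearEquiv.symm_apply_apply]
    change Q (φ (E b).1 (E b).2 x) = Q (φ (E a).1 (E a).2 x)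
    rw [hφQ, hφQ]
  · rintro a ⟨U, hUD, hU, hd⟩
    rw [hDnd.decomp.finrank_eq a] at hd
    have h3 : 0 < finrank F U := by omega
    have : Nontrivial U := Module.finrank_pos_iff.1 h3
    obtain ⟨u, hu⟩ := exists_ne (0 : U)
    obtain ⟨w, hw⟩ := hUD u.2
    have h4 := hU u.1 u.2
    rw [← hw, hφQ] at h4
    apply hu
    apply Subtype.ext
    rw [← hw, hn0 w h4, map_zero]; rfl
  · rintro g ⟨⟨σ, hσ⟩, hgI⟩
    apply mem_decompositionStabilizer_of_forall hDnd.decomp
    intro a
    rcases h1 : E a with ⟨i, k⟩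
    have hDa : D' a = LinearMap.range (φ i k) := by
      change LinearMap.range (φ (E a).1 (E a).2) = _
      rw [h1]
    have key : ∀ x ∈ (D' a).map (Matrix.toLin' (g : Matrix ι ι F)),
        x ∈ LinearMap.range (φ (σ i) 0) ∨ x ∈ LinearMap.range (φ (σ i) 1) := by
      rw [hDa]
      rintro _ ⟨_, ⟨w, rfl⟩, rfl⟩
      have h3 : Matrix.toLin' (g : Matrix ι ι F) (φ i k w) ∈ D (σ i) := by
        rw [← hσ i]
        exact ⟨_, hφD i k w, rfl⟩
      by_cases hw : w = 0
      · left
        rw [hw, map_zero, map_zero]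
        exact Submodule.zero_mem _
      obtain ⟨⟨p, r⟩, hpr⟩ := (e (σ i)).surjective ⟨_, h3⟩
      have h4 : (e (σ i) (p, r) : ι → F) = Matrix.toLin' (g : Matrix ι ι F) (φ i k w) := by rw [hpr]
      have h5 : nQ F p + nQ F r = 1 := by
        have := he' (σ i) (p, r)
        rw [h4] at this
        rw [← this]
        change Q ((g : Matrix ι ι F) *ᵥ (φ i k w)) = 1
        rw [mem_iso_iff.1 hgI, hφQ, nQ_eq_one hF hw]
      by_cases hr : r = 0
      · left
        refine ⟨p, ?_⟩
        rw [← h4, hr]; rfl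
      · right
        have hp0 : p = 0 := by
          by_contra hp0
          rw [nQ_eq_one hF hp0, nQ_eq_one hF hr, one_add_one_eq_two, h2] at h5
          exact zero_ne_one h5
        refine ⟨r, ?_⟩
        rw [← h4, hp0]; rfl
    -- contained in one of the two
    have hone : ∃ l, (D' a).map (Matrix.toLin' (g : Matrix ι ι F)) ≤ LinearMap.range (φ (σ i) l) := by
      by_contra hc
      push Not at hc
      obtain ⟨x, hx, hx0⟩ := SetLike.not_le_iff_exists.1 (hc 0)
      obtain ⟨y, hy, hy1⟩ := SetLike.not_le_iff_exists.1 (hc 1)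
      have hx1 := (key x hx).resolve_left hx0
      have hy0 := (key y hy).resolve_right hy1
      rcases key (x + y) (Submodule.add_mem _ hx hy) with h | h
      · apply hx0
        have := Submodule.sub_mem _ h hy0
        rwa [add_sub_cancel_right] at this
      · apply hy1
        have := Submodule.sub_mem _ h hx1
        rwa [add_sub_cancel_left] at this
    obtain ⟨l, hl⟩ := hone
    refine ⟨E.symm (σ i, l), ?_⟩
    have h6 : D' (E.symm (σ i, l)) = LinearMap.range (φ (σ i) l) := by
      change LinearMap.range (φ (E (E.symm (σ i, l))).1 (E (E.symm (σ i, l))).2) = _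
      rw [Equiv.apply_symm_apply]
    rw [h6]
    apply Submodule.eq_of_le_of_finrank_eq hl
    have h7 : finrank F ((D' a).map (Matrix.toLin' (g : Matrix ι ι F))) = finrank F (D' a) :=
      LinearEquiv.finrank_map_eq (glLin g) (D' a)
    rw [h7, hDnd.decomp.finrank_eq a, ← h6, hDnd.decomp.finrank_eq]

end Cfsg.Agent.H932
end

-- part: H932/Regroup
section
/-!
Orthogonal tensor decompositions `n₁ ⊗ 4` (H932).

* `exists_decomp_of_tensor`: `n₂` odd, odd characteristic: the tensor decomposition `n₁ ⊗ n₂` into symmetric forms gives an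
  orthogonal decomposition into `n₂` isometric members of dimension `n₁`, similar to the first factor;
* `exists_regroup`: `n₁` odd, second factor of dimension four and plus type: the elements of determinant one of the
  stabiliser lie in the stabiliser of a tensor decomposition `2 ⊗ 2 n₁` into alternating forms.
-/

set_option autoImplicit false
set_option linter.unusedSectionVars false

namespace Cfsg.Agent.H932

open Cfsg Cfsg.Geo Module
open QuadraticMap hiding proj
open Cfsg.Agent.LieClassical.OrthCore Cfsg.Agent.LieClassical.OrthTrans Cfsg.Agent.LieClassical.OrthFinite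
open Cfsg.Agent.H919 (HermForm)
open Cfsg.Agent.H925 Cfsg.Agent.H922
open Cfsg.Agent.H912 (pt tens kronecker_mulVec_pt form_pt isometry_factors mem_tensorProductSubgroup_iff chBasis
  tens_chBasis isTensorFormStructure_chBasis formOfGram_gramMatrix gramMatrix_formOfGram hermForm_formOfGram)
open scoped Matrix Kronecker MatrixGroups

variable {ι : Type} [Fintype ι] [DecidableEq ι] {F : Type*} [Field F] {Q : (ι → F) → F}

/-! ### `HermForm` and symmetric / symplectic forms -/

theorem isBilinearForm_of_herm {κ : Type} [Fintype κ] [DecidableEq κ] {ε : F} {f : (κ → F) → (κ → F) → F}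
    (hf : HermForm (RingEquiv.refl F) ε f) : IsBilinearForm f :=
  ⟨hf.add_left, hf.smul_left, hf.add_right, fun c v x => hf.smul_right v c x⟩

theorem isSymmetricForm_of_herm {κ : Type} [Fintype κ] [DecidableEq κ] {f : (κ → F) → (κ → F) → F}
    (hf : HermForm (RingEquiv.refl F) 1 f) : IsSymmetricForm f :=
  ⟨isBilinearForm_of_herm hf, fun u v => by have := hf.herm u v; rw [one_mul] at this; exact this, hf.nondegenerate⟩

theorem alternating_of_herm {κ : Type} [Fintype κ] [DecidableEq κ] (h2 : (2 : F) ≠ 0) {f : (κ → F) → (κ → F) → F}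
    (hf : HermForm (RingEquiv.refl F) (-1) f) (v : κ → F) : f v v = 0 := by
  have h : f v v = -1 * f v v := hf.herm v v
  have h3 : (2 : F) * f v v = 0 := by linear_combination h
  exact (mul_eq_zero.1 h3).resolve_left h2

theorem isSymplecticForm_of_alt {κ : Type} [Fintype κ] [DecidableEq κ] {ε : F} {f : (κ → F) → (κ → F) → F}
    (hf : HermForm (RingEquiv.refl F) ε f) (halt : ∀ v, f v v = 0) : IsSymplecticForm f := by
  refine ⟨isBilinearForm_of_herm hf, fun v w => ?_, halt, hf.nondegenerate⟩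
  have h := halt (v + w)
  rw [hf.add_left, hf.add_right, hf.add_right, halt, halt] at h
  linear_combination h

/-! ### Orthogonal decompositions from tensor decompositions -/

theorem exists_decomp_of_tensor [Finite F] (h2 : (2 : F) ≠ 0) (hQ : IsNondegenerateQuadraticForm Q) {n₁ n₂ : ℕ}
    (hn₁ : 0 < n₁) (hn₂ : 2 ≤ n₂) (hodd : Odd n₂) {f₁ : (Fin n₁ → F) → (Fin n₁ → F) → F}
    {f₂ : (Fin n₂ → F) → (Fin n₂ → F) → F}
    (h1 : HermForm (RingEquiv.refl F) 1 f₁) (h2' : HermForm (RingEquiv.refl F) 1 f₂)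
    {e : ι ≃ Fin n₁ × Fin n₂} {P : GL ι F}
    (h : IsTensorFormStructure (RingEquiv.refl F) (polar Q) f₁ f₂ e P) :
    ∃ D : Fin n₂ → Submodule F (ι → F), IsOrthogonalMDecomposition Q n₁ D ∧
      ∀ j, (IsPlusTypeOn Q (D j) ↔ IsPlusTypeOn (fun v : Fin n₁ → F => f₁ v v) ⊤) := by
  classical
  obtain ⟨c, hc, hpt⟩ := form_pt h1 h2' h
  have hpt' : ∀ v v' w w', polar Q (H914.pureL e P w v) (H914.pureL e P w' v') = c * (f₁ v v' * f₂ w w') :=
    fun v v' w w' => hpt v v' w w'
  have hS2 := isSymmetricForm_of_herm h2'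
  obtain ⟨d, W, hd, hW⟩ := exists_basis_const h2 (toBilin hS2.bilinear)
    ⟨fun u v => hS2.symm u v⟩ (toBilin_nondegenerate hS2.bilinear hS2.nondegenerate) hodd
    (by rw [Module.finrank_fintype_fun_eq_card, Fintype.card_fin])
  have hW' : ∀ i j, f₂ (W i) (W j) = if i = j then d else 0 := hW
  let φ : Fin n₂ → ((Fin n₁ → F) →ₗ[F] (ι → F)) := fun j => H914.pureL e P (W j)
  have hφinj : ∀ j, Function.Injective (φ j) := fun j => H914.pureL_injective e P (W.ne_zero j)
  have hφQ : ∀ j v, 2 * Q (φ j v) = c * d * f₁ v v := by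
    intro j v
    rw [← polar_self hQ]
    change polar Q (H914.pureL e P (W j) v) (H914.pureL e P (W j) v) = _
    rw [hpt', hW', if_pos rfl]; ring
  have hcard : n₂ * n₁ = Fintype.card ι := by
    rw [Fintype.card_congr e, Fintype.card_prod, Fintype.card_fin, Fintype.card_fin, mul_comm]
  let D : Fin n₂ → Submodule F (ι → F) := fun j => LinearMap.range (φ j)
  have hDnd : IsNondegenerateMDecomposition (polar Q) n₁ D := by
    apply isNondegenerateMDecomposition_of_orth hQ hn₂ hn₁ hcard
    · intro j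
      change finrank F (LinearMap.range (φ j)) = n₁
      rw [LinearMap.finrank_range_of_inj (hφinj j), Module.finrank_fintype_fun_eq_card, Fintype.card_fin]
    · rintro j _ ⟨v, rfl⟩ hv
      have hv0 : v ≠ 0 := by
        rintro rfl
        exact hv (map_zero _)
      obtain ⟨⟨x, hx⟩, ⟨y, hy⟩⟩ := h1.nondegenerate v hv0
      refine ⟨⟨_, ⟨x, rfl⟩, ?_⟩, ⟨_, ⟨y, rfl⟩, ?_⟩⟩
      · change polar Q (H914.pureL e P (W j) x) (H914.pureL e P (W j) v) ≠ 0
        rw [hpt', hW', if_pos rfl]
        exact mul_ne_zero hc (mul_ne_zero hx hd)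
      · change polar Q (H914.pureL e P (W j) v) (H914.pureL e P (W j) y) ≠ 0
        rw [hpt', hW', if_pos rfl]
        exact mul_ne_zero hc (mul_ne_zero hy hd)
    · rintro i j hij _ ⟨v, rfl⟩ _ ⟨w, rfl⟩
      change polar Q (H914.pureL e P (W i) v) (H914.pureL e P (W j) w) = 0
      rw [hpt', hW', if_neg hij, mul_zero, mul_zero]
  refine ⟨D, ⟨hDnd, ?_⟩, ?_⟩
  · intro a b
    refine ⟨(LinearEquiv.ofInjective _ (hφinj a)).symm.trans (LinearEquiv.ofInjective _ (hφinj b)), fun w => ?_⟩
    obtain ⟨x, rfl⟩ := (LinearEquiv.ofInjective _ (hφinj a)).surjective w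
    rw [LinearEquiv.trans_apply, LinearEquiv.symm_apply_apply]
    change Q (φ b x) = Q (φ a x)
    apply mul_left_cancel₀ h2
    rw [hφQ, hφQ]
  · intro j
    constructor
    · rintro ⟨U, hUD, hU, hdU⟩
      refine ⟨U.comap (φ j), le_top, ?_, ?_⟩
      · intro v hv
        have h3 := hφQ j v
        have h4 : Q (φ j v) = 0 := hU _ hv
        rw [h4, mul_zero] at h3
        exact (mul_eq_zero.1 h3.symm).resolve_left (mul_ne_zero hc hd)
      · have h5 : (U.comap (φ j)).map (φ j) = U := by
          rw [Submodule.map_comap_eq]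
          exact inf_eq_right.2 hUD
        have h6 : finrank F ((U.comap (φ j)).map (φ j)) = finrank F (U.comap (φ j)) :=
          (Submodule.equivMapOfInjective (φ j) (hφinj j) _).finrank_eq.symm
        rw [← h6, h5, hdU, finrank_top, Module.finrank_fintype_fun_eq_card, Fintype.card_fin]
        exact hDnd.decomp.finrank_eq j
    · rintro ⟨U, -, hU, hdU⟩
      refine ⟨U.map (φ j), ?_, ?_, ?_⟩
      · rintro _ ⟨v, -, rfl⟩
        exact ⟨v, rfl⟩
      · rintro _ ⟨v, hv, rfl⟩
        have h3 := hφQ j v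
        have h4 : f₁ v v = 0 := hU v hv
        rw [h4, mul_zero] at h3
        exact (mul_eq_zero.1 h3).resolve_left h2
      · have h6 : finrank F (U.map (φ j)) = finrank F U :=
          (Submodule.equivMapOfInjective (φ j) (hφinj j) _).finrank_eq.symm
        rw [h6, hdU, finrank_top, Module.finrank_fintype_fun_eq_card, Fintype.card_fin]
        exact (hDnd.decomp.finrank_eq j).symm

/-! ### The model in dimension four -/

/-- indices of `F² ⊗ F²` -/
def u4 : Fin 4 ≃ Fin 2 × Fin 2 := (finProdFinEquiv (m := 2) (n := 2)).symm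

def J2 (F : Type*) [Field F] : Matrix (Fin 2) (Fin 2) F := !![0, 1; -1, 0]

theorem det_J2 : (J2 F).det = 1 := by
  rw [J2, Matrix.det_fin_two_of]; ring

/-- the tensor square of the alternating form, as a bilinear form on `F⁴` -/
def mB (F : Type*) [Field F] : LinearMap.BilinForm F (Fin 4 → F) :=
  LinearMap.mk₂ F (fun y y' => dp (y ∘ u4.symm) (y' ∘ u4.symm))
    (fun y z y' => by simp only [dp, Function.comp, Pi.add_apply]; ring)
    (fun c y y' => by simp only [dp, Function.comp, Pi.smul_apply, smul_eq_mul]; ring)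
    (fun y y' z => by simp only [dp, Function.comp, Pi.add_apply]; ring)
    (fun c y y' => by simp only [dp, Function.comp, Pi.smul_apply, smul_eq_mul]; ring)

theorem mB_apply (y y' : Fin 4 → F) : mB F y y' = dp (y ∘ u4.symm) (y' ∘ u4.symm) := rfl

theorem dp_self (z : Fin 2 × Fin 2 → F) : dp z z = 2 * dq z := by simp only [dp, dq]; ring

theorem dp_comm (z z' : Fin 2 × Fin 2 → F) : dp z z' = dp z' z := by simp only [dp]; ring

theorem exists_dp_ne {z : Fin 2 × Fin 2 → F} (hz : z ≠ 0) : ∃ z', dp z z' ≠ 0 := by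
  by_contra hc
  push Not at hc
  apply hz
  funext ⟨i, j⟩
  have h1 := hc (Pi.single (0, 0) 1)
  have h2 := hc (Pi.single (0, 1) 1)
  have h3 := hc (Pi.single (1, 0) 1)
  have h4 := hc (Pi.single (1, 1) 1)
  simp [dp] at h1 h2 h3 h4
  fin_cases i <;> fin_cases j
  · exact h4
  · exact h3
  · exact h2
  · exact h1

/-- **A symmetric form of plus type on `F⁴` is the tensor square of the alternating form of `F²`.** -/
theorem exists_model [Finite F] (h2 : (2 : F) ≠ 0) {f₂ : (Fin 4 → F) → (Fin 4 → F) → F}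
    (h2' : HermForm (RingEquiv.refl F) 1 f₂) (hp : IsPlusTypeOn (fun v : Fin 4 → F => f₂ v v) ⊤) :
    ∃ R : GL (Fin 4) F, ∀ y y' : Fin 4 → F, f₂ ((R : Matrix (Fin 4) (Fin 4) F) *ᵥ y) ((R : Matrix (Fin 4) (Fin 4) F) *ᵥ y') =
      dp (y ∘ u4.symm) (y' ∘ u4.symm) := by
  have hS := isSymmetricForm_of_herm h2'
  let q₂ : QuadraticForm F (Fin 4 → F) := (toBilin hS.bilinear).toQuadraticMap
  let q₀ : QuadraticForm F (Fin 4 → F) := (mB F).toQuadraticMap
  have hq₂ : ∀ v, q₂ v = f₂ v v := fun v => rfl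
  have hq₀ : ∀ v, q₀ v = dp (v ∘ u4.symm) (v ∘ u4.symm) := fun v => rfl
  have hpol₂ : ∀ u v, polar q₂ u v = 2 * f₂ u v := by
    intro u v
    simp only [polar, hq₂]
    rw [hS.bilinear.add_left, hS.bilinear.add_right, hS.bilinear.add_right, hS.symm v u]; ring
  have hpol₀ : ∀ u v, polar q₀ u v = 2 * dp (u ∘ u4.symm) (v ∘ u4.symm) := by
    intro u v
    simp only [polar, hq₀, dp, Function.comp, Pi.add_apply]; ring
  have hnd₂ : Nondeg q₂ := by
    intro x hx
    by_contra h0
    obtain ⟨-, y, hy⟩ := hS.nondegenerate x h0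
    have := hx y
    rw [hpol₂] at this
    exact hy ((mul_eq_zero.1 this).resolve_left h2)
  have hnd₀ : Nondeg q₀ := by
    intro x hx
    by_contra h0
    have h0' : x ∘ u4.symm ≠ 0 := by
      intro h
      apply h0
      funext i
      have := congrFun h (u4 i)
      simpa using this
    obtain ⟨z, hz⟩ := exists_dp_ne h0'
    have := hx (z ∘ u4)
    rw [hpol₀] at this
    apply hz
    have h3 := (mul_eq_zero.1 this).resolve_left h2
    rwa [Function.comp_assoc, Equiv.self_comp_symm, Function.comp_id] at h3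
  have hfr : finrank F (Fin 4 → F) = 4 := by rw [Module.finrank_fintype_fun_eq_card, Fintype.card_fin]
  have hpl₂ : Pl q₂ := by
    obtain ⟨U, -, hU, hd⟩ := hp
    exact ⟨U, fun u hu => hU u hu, by rw [hd, finrank_top]⟩
  have hpl₀ : Pl q₀ := by
    let φ : (Fin 2 → F) →ₗ[F] (Fin 4 → F) :=
      { toFun := fun w => pt (Pi.single 0 1) w ∘ u4
        map_add' := fun w w' => by rw [pt_add_right]; rfl
        map_smul' := fun c w => by rw [pt_smul_right]; rfl }
    have hφ : ∀ w, φ w = pt (Pi.single 0 1) w ∘ u4 := fun w => rfl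
    have hinj : Function.Injective φ := by
      intro w w' h
      funext j
      have := congrFun h (u4.symm (0, j))
      rw [hφ, hφ] at this
      simpa [pt] using this
    refine ⟨LinearMap.range φ, ?_, ?_⟩
    · rintro _ ⟨w, rfl⟩
      rw [hq₀, hφ, Function.comp_assoc, Equiv.self_comp_symm, Function.comp_id, dp_pt, om_self, zero_mul]
    · rw [LinearMap.finrank_range_of_inj hinj, hfr, Module.finrank_fintype_fun_eq_card, Fintype.card_fin]
  obtain ⟨β, hβ⟩ := exists_isometry hnd₀ hnd₂ (by rw [hfr]; decide) rfl ⟨fun _ => hpl₂, fun _ => hpl₀⟩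
  refine ⟨Cfsg.Agent.H912.ofLinEquiv β, fun y y' => ?_⟩
  rw [Cfsg.Agent.H912.ofLinEquiv_mulVec, Cfsg.Agent.H912.ofLinEquiv_mulVec]
  apply mul_left_cancel₀ h2
  rw [← hpol₂, ← hpol₀]
  simp only [polar, ← map_add, hβ]

theorem gram_model {f₂ : (Fin 4 → F) → (Fin 4 → F) → F}
    (h : ∀ y y' : Fin 4 → F, f₂ y y' = dp (y ∘ u4.symm) (y' ∘ u4.symm)) (i j : Fin 4) :
    gramMatrix f₂ i j = J2 F (u4 i).1 (u4 j).1 * J2 F (u4 i).2 (u4 j).2 := by
  have key : ∀ k : Fin 4, (Pi.single k (1 : F) : Fin 4 → F) ∘ u4.symm =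
      pt (Pi.single (u4 k).1 1) (Pi.single (u4 k).2 1) := by
    intro k
    rw [pt_single]
    funext a
    simp only [Function.comp, Pi.single_apply, Prod.mk.eta]
    by_cases hh : u4.symm a = k
    · rw [if_pos hh, if_pos]
      rw [← hh, Equiv.apply_symm_apply]
    · rw [if_neg hh, if_neg]
      intro h3
      apply hh
      rw [h3, Equiv.symm_apply_apply]
  have hom : ∀ a b : Fin 2, om (Pi.single a (1 : F)) (Pi.single b (1 : F)) = J2 F a b := by
    intro a b
    fin_cases a <;> fin_cases b <;> simp [om, J2]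
  rw [gramMatrix, h, key, key, dp_pt, hom, hom]

/-! ### Regrouping -/

/-- `n₁ ⊗ (2 ⊗ 2) = 2 ⊗ (n₁ ⊗ 2)` on indices -/
def sg (n₁ : ℕ) : Fin n₁ × Fin 4 ≃ Fin 2 × Fin (n₁ * 2) where
  toFun p := ((u4 p.2).1, finProdFinEquiv (p.1, (u4 p.2).2))
  invFun r := ((finProdFinEquiv.symm r.2).1, u4.symm (r.1, (finProdFinEquiv.symm r.2).2))
  left_inv p := by
    show ((finProdFinEquiv.symm (finProdFinEquiv (p.1, (u4 p.2).2))).1,
      u4.symm ((u4 p.2).1, (finProdFinEquiv.symm (finProdFinEquiv (p.1, (u4 p.2).2))).2)) = p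
    rw [Equiv.symm_apply_apply]
    exact Prod.ext rfl (u4.symm_apply_apply p.2)
  right_inv r := by
    refine Prod.ext ?_ ?_
    · show (u4 (u4.symm _)).1 = r.1
      rw [Equiv.apply_symm_apply]
    · show finProdFinEquiv ((finProdFinEquiv.symm r.2).1, (u4 (u4.symm _)).2) = r.2
      rw [Equiv.apply_symm_apply]
      exact finProdFinEquiv.apply_symm_apply r.2

theorem tens_regroup {n₁ : ℕ} (e : ι ≃ Fin n₁ × Fin 4) (P : GL ι F) (a : Matrix (Fin n₁) (Fin n₁) F)
    (x y : Matrix (Fin 2) (Fin 2) F) :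
    tens e P a ((x ⊗ₖ y).submatrix u4 u4) =
      tens (e.trans (sg n₁)) P x ((a ⊗ₖ y).submatrix finProdFinEquiv.symm finProdFinEquiv.symm) := by
  unfold tens
  congr 2
  ext i j
  simp only [Matrix.coe_reindexAlgEquiv, Matrix.reindex_apply, Equiv.symm_symm, Matrix.submatrix_apply,
    Matrix.kroneckerMap_apply, Equiv.trans_apply, sg, Equiv.coe_fn_mk, Equiv.symm_apply_apply]
  ring

/-- the alternating form of the plane -/
def gA (F : Type*) [Field F] : (Fin 2 → F) → (Fin 2 → F) → F := formOfGram (RingEquiv.refl F) (J2 F)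

/-- the second factor after regrouping -/
def gB {n₁ : ℕ} (f₁ : (Fin n₁ → F) → (Fin n₁ → F) → F) : (Fin (n₁ * 2) → F) → (Fin (n₁ * 2) → F) → F :=
  formOfGram (RingEquiv.refl F) ((gramMatrix f₁ ⊗ₖ J2 F).submatrix finProdFinEquiv.symm finProdFinEquiv.symm)

theorem hermForm_gA : HermForm (RingEquiv.refl F) (-1) (gA F) := by
  apply hermForm_formOfGram (fun a => rfl)
  · rw [det_J2]; exact isUnit_one
  · simp
  · intro i j
    fin_cases i <;> fin_cases j <;> simp [J2]

theorem hermForm_gB {n₁ : ℕ} {f₁ : (Fin n₁ → F) → (Fin n₁ → F) → F} (h1 : HermForm (RingEquiv.refl F) 1 f₁) :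
    HermForm (RingEquiv.refl F) (-1) (gB f₁) := by
  apply hermForm_formOfGram (fun a => rfl)
  · rw [Matrix.det_submatrix_equiv_self, Matrix.det_kronecker, det_J2, one_pow, mul_one]
    apply IsUnit.pow
    rw [isUnit_iff_ne_zero]
    exact gramMatrix_det_ne_zero (isBilinearForm_of_herm h1) h1.nondegenerate
  · simp
  · intro i j
    simp only [Matrix.submatrix_apply, Matrix.kroneckerMap_apply, RingEquiv.refl_apply]
    have e1 : ∀ a b, gramMatrix f₁ a b = gramMatrix f₁ b a := fun a b => (isSymmetricForm_of_herm h1).symm _ _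
    have e2 : ∀ a b : Fin 2, J2 F a b = - J2 F b a := by
      intro a b
      fin_cases a <;> fin_cases b <;> simp [J2]
    rw [e1, e2]; ring

theorem structure_regroup {n₁ : ℕ} {f₁ : (Fin n₁ → F) → (Fin n₁ → F) → F} {f₂ : (Fin 4 → F) → (Fin 4 → F) → F}
    {g : (ι → F) → (ι → F) → F}
    (hf₂ : ∀ y y' : Fin 4 → F, f₂ y y' = dp (y ∘ u4.symm) (y' ∘ u4.symm)) {e : ι ≃ Fin n₁ × Fin 4} {P : GL ι F}
    (h : IsTensorFormStructure (RingEquiv.refl F) g f₁ f₂ e P) :
    IsTensorFormStructure (RingEquiv.refl F) g (gA F) (gB f₁) (e.trans (sg n₁)) P := by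
  obtain ⟨c, hc, h⟩ := h
  refine ⟨c, hc, fun x y => ?_⟩
  have e1 : ∀ x : Fin 2 × Fin (n₁ * 2) → F, x ∘ (e.trans (sg n₁)) = (x ∘ sg n₁) ∘ e := fun x => rfl
  rw [e1, e1, h]
  congr 1
  rw [gA, gB, gramMatrix_formOfGram, gramMatrix_formOfGram]
  unfold formOfGram
  rw [← Equiv.sum_comp (sg n₁)]
  refine Finset.sum_congr rfl fun a _ => ?_
  rw [← Equiv.sum_comp (sg n₁)]
  refine Finset.sum_congr rfl fun b _ => ?_
  simp only [Function.comp, Matrix.kroneckerMap_apply, Matrix.submatrix_apply, gram_model hf₂]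
  simp only [sg, Equiv.coe_fn_mk, Equiv.symm_apply_apply]
  ring

theorem det_tens {n₁ n₂ : ℕ} (e : ι ≃ Fin n₁ × Fin n₂) (P : GL ι F) (a : Matrix (Fin n₁) (Fin n₁) F)
    (b : Matrix (Fin n₂) (Fin n₂) F) : (tens e P a b).det = a.det ^ n₂ * b.det ^ n₁ := by
  unfold tens
  rw [Matrix.det_mul_right_comm, ← Units.val_mul, mul_inv_cancel, Units.val_one, Matrix.one_mul,
    Matrix.coe_reindexAlgEquiv, Matrix.det_reindex_self, Matrix.det_kronecker, Fintype.card_fin, Fintype.card_fin]

theorem sq_det_of_similarity {n₁ : ℕ} {f₁ : (Fin n₁ → F) → (Fin n₁ → F) → F}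
    (h1 : HermForm (RingEquiv.refl F) 1 f₁) {a : Matrix (Fin n₁) (Fin n₁) F} {μ : F}
    (h : ∀ v v', f₁ (a *ᵥ v) (a *ᵥ v') = μ * f₁ v v') : a.det ^ 2 = μ ^ n₁ := by
  have hb := isBilinearForm_of_herm h1
  have hG0 : (gramMatrix f₁).det ≠ 0 := gramMatrix_det_ne_zero hb h1.nondegenerate
  have e1 := gramMatrix_comp hb a
  have e2 : gramMatrix (fun u v => f₁ (a *ᵥ u) (a *ᵥ v)) = μ • gramMatrix f₁ := by
    ext i j
    exact h _ _
  rw [e2] at e1
  have e3 := congrArg Matrix.det e1
  rw [Matrix.det_smul, Matrix.det_mul, Matrix.det_mul, Matrix.det_transpose, Fintype.card_fin] at e3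
  apply mul_right_cancel₀ hG0
  linear_combination -e3

/-- **Regrouping `n₁ ⊗ 4⁺` as `2 ⊗ 2 n₁`.** -/
theorem exists_regroup [Finite F] (h2 : (2 : F) ≠ 0) {n₁ : ℕ} (hn₁ : Odd n₁)
    {f₁ : (Fin n₁ → F) → (Fin n₁ → F) → F} {f₂ : (Fin 4 → F) → (Fin 4 → F) → F}
    (h1 : HermForm (RingEquiv.refl F) 1 f₁) (h2' : HermForm (RingEquiv.refl F) 1 f₂)
    (hp : IsPlusTypeOn (fun v : Fin 4 → F => f₂ v v) ⊤) {g : (ι → F) → (ι → F) → F}
    {e : ι ≃ Fin n₁ × Fin 4} {P : GL ι F}
    (h : IsTensorFormStructure (RingEquiv.refl F) g f₁ f₂ e P) :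
    ∃ (e' : ι ≃ Fin 2 × Fin (n₁ * 2)) (P' : GL ι F) (g₁ : (Fin 2 → F) → (Fin 2 → F) → F)
      (g₂ : (Fin (n₁ * 2) → F) → (Fin (n₁ * 2) → F) → F),
      HermForm (RingEquiv.refl F) (-1) g₁ ∧ HermForm (RingEquiv.refl F) (-1) g₂ ∧
      IsTensorFormStructure (RingEquiv.refl F) g g₁ g₂ e' P' ∧
      ∀ x ∈ tensorProductSubgroup n₁ 4 e P,
        (∀ u v, g ((x : Matrix ι ι F) *ᵥ u) ((x : Matrix ι ι F) *ᵥ v) = g u v) →
        (x : Matrix ι ι F).det = 1 → x ∈ tensorProductSubgroup 2 (n₁ * 2) e' P' := by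
  obtain ⟨R, hR⟩ := exists_model h2 h2' hp
  let f₂' : (Fin 4 → F) → (Fin 4 → F) → F := fun y y' =>
    f₂ ((R : Matrix (Fin 4) (Fin 4) F) *ᵥ y) ((R : Matrix (Fin 4) (Fin 4) F) *ᵥ y')
  have hb2 := isBilinearForm_of_herm h2'
  have hst : IsTensorFormStructure (RingEquiv.refl F) g f₁ f₂' e (chBasis e P 1 R) := by
    apply isTensorFormStructure_chBasis h 1 R
    · have : (((1 : GL (Fin n₁) F) : Matrix (Fin n₁) (Fin n₁) F)).map (RingEquiv.refl F) = 1 := by
        ext i j; rfl
      rw [this, Units.val_one, Matrix.transpose_one, Matrix.one_mul, Matrix.mul_one]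
    · have : (R : Matrix (Fin 4) (Fin 4) F).map (RingEquiv.refl F) = R := by
        ext i j; rfl
      rw [this, ← gramMatrix_comp hb2]
  have hf2'H : HermForm (RingEquiv.refl F) 1 f₂' :=
    ⟨fun x y v => by simp only [f₂', Matrix.mulVec_add, h2'.add_left],
     fun c x v => by simp only [f₂', Matrix.mulVec_smul, h2'.smul_left], fun a => rfl, by simp,
     fun x y => h2'.herm _ _, by
      intro v hv
      have hRv : (R : Matrix (Fin 4) (Fin 4) F) *ᵥ v ≠ 0 := by
        intro h0
        apply hv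
        have := congrArg (fun u => ((R⁻¹ : GL (Fin 4) F) : Matrix (Fin 4) (Fin 4) F) *ᵥ u) h0
        simpa [Matrix.mulVec_mulVec, ← Units.val_mul] using this
      obtain ⟨⟨x, hx⟩, ⟨y, hy⟩⟩ := h2'.nondegenerate _ hRv
      refine ⟨⟨((R⁻¹ : GL (Fin 4) F) : Matrix (Fin 4) (Fin 4) F) *ᵥ x, ?_⟩,
        ⟨((R⁻¹ : GL (Fin 4) F) : Matrix (Fin 4) (Fin 4) F) *ᵥ y, ?_⟩⟩
      · change f₂ (R.val *ᵥ (R⁻¹.val *ᵥ x)) _ ≠ 0
        rw [Matrix.mulVec_mulVec, ← Units.val_mul, mul_inv_cancel, Units.val_one, Matrix.one_mulVec]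
        exact hx
      · change f₂ _ (R.val *ᵥ (R⁻¹.val *ᵥ y)) ≠ 0
        rw [Matrix.mulVec_mulVec, ← Units.val_mul, mul_inv_cancel, Units.val_one, Matrix.one_mulVec]
        exact hy⟩
  refine ⟨e.trans (sg n₁), chBasis e P 1 R, gA F, gB f₁, hermForm_gA, hermForm_gB h1,
    structure_regroup hR hst, ?_⟩
  intro x hx hxg hdet
  obtain ⟨a, b, hab⟩ := mem_tensorProductSubgroup_iff.1 hx
  obtain ⟨b', hb'⟩ : ∃ b' : GL (Fin 4) F, b' = R⁻¹ * b * R := ⟨_, rfl⟩
  have hxt : (x : Matrix ι ι F) = tens e (chBasis e P 1 R) (a : Matrix (Fin n₁) (Fin n₁) F) (b' : Matrix (Fin 4) (Fin 4) F) := by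
    rw [tens_chBasis, hab]
    have e1 : ((1 : GL (Fin n₁) F) : Matrix (Fin n₁) (Fin n₁) F) * a * (((1 : GL (Fin n₁) F)⁻¹ : GL (Fin n₁) F) : Matrix (Fin n₁) (Fin n₁) F) = a := by
      rw [inv_one, Units.val_one, Matrix.one_mul, Matrix.mul_one]
    have e2 : (R : Matrix (Fin 4) (Fin 4) F) * b' * ((R⁻¹ : GL (Fin 4) F) : Matrix (Fin 4) (Fin 4) F) = b := by
      rw [← Units.val_mul, ← Units.val_mul, hb']
      congr 1
      group
    rw [e1, e2]
  have hn₁0 : 0 < n₁ := hn₁.pos
  obtain ⟨μ, hμ, ha, hb⟩ := isometry_factors hn₁0 (by norm_num) h1 hf2'H hst (a := (a : Matrix (Fin n₁) (Fin n₁) F))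
    (b := (b' : Matrix (Fin 4) (Fin 4) F)) (by rw [← hxt]; exact hxg)
  have hda := sq_det_of_similarity h1 ha
  -- the second factor
  set B : Matrix (Fin 2 × Fin 2) (Fin 2 × Fin 2) F := (b' : Matrix (Fin 4) (Fin 4) F).submatrix u4.symm u4.symm with hBdef
  have hBb : (b' : Matrix (Fin 4) (Fin 4) F) = B.submatrix u4 u4 := by
    ext i j
    simp [hBdef]
  have hBv : ∀ z : Fin 2 × Fin 2 → F, B *ᵥ z = ((b' : Matrix (Fin 4) (Fin 4) F) *ᵥ (z ∘ u4)) ∘ u4.symm := by
    intro z
    rw [hBdef, Matrix.submatrix_mulVec_equiv]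
    rfl
  have hBq : ∀ z, dq (B *ᵥ z) = μ⁻¹ * dq z := by
    intro z
    apply mul_left_cancel₀ h2
    have h3 := hb (z ∘ u4) (z ∘ u4)
    change f₂ (R.val *ᵥ _) (R.val *ᵥ _) = μ⁻¹ * f₂ (R.val *ᵥ _) (R.val *ᵥ _) at h3
    rw [hR, hR, ← hBv, Function.comp_assoc, Equiv.self_comp_symm, Function.comp_id, dp_self, dp_self] at h3
    linear_combination h3
  have hνB : μ⁻¹ ≠ 0 := inv_ne_zero hμ
  have hdetB : B.det ≠ - (μ⁻¹) ^ 2 := by
    intro hBd
    rw [hxt, det_tens] at hdet
    have hbd : (b' : Matrix (Fin 4) (Fin 4) F).det = B.det := by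
      rw [hBb, Matrix.det_submatrix_equiv_self]
    have h4 : (a : Matrix (Fin n₁) (Fin n₁) F).det ^ 4 = (μ ^ n₁) ^ 2 := by
      rw [← hda]; ring
    rw [hbd, hBd, h4, neg_pow, hn₁.neg_one_pow] at hdet
    have h5 : (μ ^ n₁) ^ 2 * (-1 * ((μ⁻¹) ^ 2) ^ n₁) = -1 := by
      have : (μ ^ n₁) ^ 2 * ((μ⁻¹) ^ 2) ^ n₁ = 1 := by
        rw [← pow_mul, ← pow_mul, mul_comm n₁ 2, ← mul_pow, mul_inv_cancel₀ hμ, one_pow]
      linear_combination -this
    rw [h5] at hdet
    apply h2
    linear_combination -hdet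
  obtain ⟨X, Y, hX, hY, hXY⟩ := preserver_of_det hνB hBq hdetB
  rw [mem_tensorProductSubgroup_iff]
  have hdetA : (a : Matrix (Fin n₁) (Fin n₁) F).det ≠ 0 := by
    intro h0
    rw [h0] at hda
    exact pow_ne_zero n₁ hμ (by rw [← hda]; ring)
  refine ⟨Matrix.GeneralLinearGroup.mkOfDetNeZero X hX,
    Matrix.GeneralLinearGroup.mkOfDetNeZero
      (((a : Matrix (Fin n₁) (Fin n₁) F) ⊗ₖ Y).submatrix finProdFinEquiv.symm finProdFinEquiv.symm) ?_, ?_⟩
  · rw [Matrix.det_submatrix_equiv_self, Matrix.det_kronecker]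
    exact mul_ne_zero (pow_ne_zero _ hdetA) (pow_ne_zero _ hY)
  · rw [hxt, hBb, hXY, tens_regroup]
    rfl

end Cfsg.Agent.H932
end

-- part: H932/TwelveBase
section
/-!
Common lemmas for the maximal subgroups of the twelve-dimensional orthogonal groups (H932).
-/

set_option autoImplicit false
set_option linter.unusedSectionVars false

namespace Cfsg.Agent.H932

open Cfsg Cfsg.Geo Module
open QuadraticMap hiding proj
open Cfsg.Agent.LieClassical.OrthCore Cfsg.Agent.LieClassical.OrthTrans Cfsg.Agent.LieClassical.OrthFinite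
open Cfsg.Agent.H919 (HermForm)
open Cfsg.Agent.H925 Cfsg.Agent.H922
open Cfsg.Agent.H912 (pt tens form_pt)
open scoped Matrix MatrixGroups

variable {ι : Type} [Fintype ι] [DecidableEq ι] {F : Type*} [Field F] {Q : (ι → F) → F}

/-- **q = 2**: the stabiliser of a plane of plus type fixes a nonsingular vector. -/
theorem plus_plane_two [Fintype F] (hF : Fintype.card F = 2) (hQ : IsNondegenerateQuadraticForm Q)
    {W : Submodule F (ι → F)} (hW : IsNondegenerateOn (polar Q) W) (hd : finrank F W = 2)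
    (hp : IsPlusTypeOn Q W) {H : Subgroup (GL ι F)} (hH : H ≤ isometryGroup F Q) (hHW : H ≤ subspaceStabilizer W) :
    ∃ v, Q v ≠ 0 ∧ H ≤ subspaceStabilizer (Submodule.span F {v}) := by
  obtain ⟨x, hx, y, hy, hQx, hQy, hxy, hspan, hval⟩ := exists_hyp_of_plus hQ hW hd hp
  have huniq : ∀ v ∈ W, Q v = 1 → v = x + y := by
    intro v hv hQv
    obtain ⟨a, b, rfl⟩ := hspan v hv
    rw [hval] at hQv
    rcases eq_zero_or_one hF a with rfl | rfl
    · rw [zero_mul] at hQv; exact absurd hQv zero_ne_one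
    · rcases eq_zero_or_one hF b with rfl | rfl
      · rw [mul_zero] at hQv; exact absurd hQv zero_ne_one
      · rw [one_smul, one_smul]
  have hQv : Q (x + y) = 1 := by
    have := hval 1 1
    rwa [one_smul, one_smul, one_mul] at this
  refine ⟨x + y, by rw [hQv]; exact one_ne_zero, ?_⟩
  intro g hg
  apply mem_subspaceStabilizer_of_forall
  intro v hv
  obtain ⟨c, rfl⟩ := Submodule.mem_span_singleton.1 hv
  rw [Matrix.mulVec_smul]
  have h1 : (g : Matrix ι ι F) *ᵥ (x + y) = x + y := by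
    apply huniq
    · exact (hHW hg _).1 (W.add_mem hx hy)
    · rw [mem_iso_iff.1 (hH hg), hQv]
  rw [h1]
  exact hv

theorem two_eq_zero_of_not_odd [Fintype F] (h : ¬ Odd (Fintype.card F)) : (2 : F) = 0 :=
  Cfsg.Agent.H926.card_even_iff_two_eq_zero.1 h

theorem odd_of_two_ne_zero [Fintype F] (h : (2 : F) ≠ 0) : Odd (Fintype.card F) := by
  by_contra hc
  exact h (two_eq_zero_of_not_odd hc)

theorem not_odd_of_two_eq_zero [Fintype F] (h : (2 : F) = 0) : ¬ Odd (Fintype.card F) := by
  intro hc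
  exact two_ne_zero_of_odd_card hc h

/-- in characteristic two nondegenerate subspaces are even-dimensional -/
theorem even_of_two (hQ : IsNondegenerateQuadraticForm Q) (h2 : (2 : F) = 0) {W : Submodule F (ι → F)}
    (hW : IsNondegenerateOn (polar Q) W) : Even (finrank F W) := by
  apply Cfsg.Agent.H926.even_on hQ.polar_bilinear W _ hW
  intro v _
  rw [polar_self hQ, h2, zero_mul]

/-- a tensor decomposition with alternating first factor and singular pure tensors forces plus type -/
theorem plus_of_pure {n₁ n₂ : ℕ} (hn₁ : n₁ = 2) {e : ι ≃ Fin n₁ × Fin n₂} {P : GL ι F}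
    (hpure : ∀ (v : Fin n₁ → F) (w : Fin n₂ → F),
      Q ((P : Matrix ι ι F) *ᵥ ((fun a : Fin n₁ × Fin n₂ => v a.1 * w a.2) ∘ e)) = 0) : IsPlusTypeOn Q ⊤ := by
  subst hn₁
  have hsw : ∀ v : Fin 2 → F, v ≠ 0 → Function.Injective (Cfsg.Agent.H914.pureL
      (e.trans (Equiv.prodComm (Fin 2) (Fin n₂))) P v) := fun v hv => Cfsg.Agent.H914.pureL_injective _ P hv
  set φ := Cfsg.Agent.H914.pureL (e.trans (Equiv.prodComm (Fin 2) (Fin n₂))) P (Pi.single 0 (1 : F)) with hφ
  have hv : (Pi.single 0 (1 : F) : Fin 2 → F) ≠ 0 := by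
    intro h
    have := congrFun h 0
    simp at this
  refine ⟨LinearMap.range φ, le_top, ?_, ?_⟩
  · rintro _ ⟨w, rfl⟩
    have h1 := hpure (Pi.single 0 1) w
    rw [← h1, hφ, Cfsg.Agent.H914.pureL_apply]
    congr 2
    funext i
    simp only [Function.comp, pt, Equiv.trans_apply, Equiv.prodComm_apply, Prod.fst_swap, Prod.snd_swap]
    ring
  · rw [LinearMap.finrank_range_of_inj (hsw _ hv), finrank_top, Module.finrank_fintype_fun_eq_card,
      Module.finrank_fintype_fun_eq_card, Fintype.card_fin, Fintype.card_congr e, Fintype.card_prod, Fintype.card_fin,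
      Fintype.card_fin]

/-- the subfield in a subfield structure is proper -/
theorem ne_top_of_card [Fintype F] {F₀ : Subfield F} {r : ℕ} (hr : r.Prime) (h : Fintype.card F = Nat.card F₀ ^ r) :
    F₀ ≠ ⊤ := by
  rintro rfl
  have h1 : Nat.card (⊤ : Subfield F) = Fintype.card F := by
    rw [← Nat.card_eq_fintype_card]
    exact Nat.card_congr Subfield.topEquiv.toEquiv
  rw [h1] at h
  have h2 : 1 < Fintype.card F := Fintype.one_lt_card
  have h3 : Fintype.card F ^ 1 < Fintype.card F ^ r := Nat.pow_lt_pow_right h2 hr.one_lt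
  rw [pow_one] at h3
  omega

end Cfsg.Agent.H932
end
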